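import Groth.Agent.SGA11.Main
import Groth.Agent.PicU24.Main
import Groth.Agent.PicU24.Bridge
import Groth.Agent.PicU24.Pull
import Groth.Agent.S7137
import Groth.Agent.RegUFD.Basic
import Groth.Agent.ParaFX.Ufd
import Groth.Agent.RamSam24.FSPara
import Groth.Agent.RamSam24.Ext
import Groth.Agent.RegLoc6.Open
import Groth.Agent.LC.ExtDim
import Groth.Agent.CILib.Basic
import Groth.Agent.S0546
import Groth.Agent.S10834

/-!
# Complete intersections of dimension at least four have no invertible modules on the punctured spectrum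
-/

set_option autoImplicit false
set_option backward.isDefEq.respectTransparency false
set_option backward.isDefEq.respectTransparency.types false
set_option linter.style.haveILetI false
universe u

open CategoryTheory AlgebraicGeometry IsLocalRing
open Groth.Agent.AModX Groth.Agent.InvX

namespace Groth.Agent.SGA11

open PicU24

/-- Trivial cocycles on a punctured spectrum restrict to a hypersurface. -/
theorem picTrivial_hypersurface {B : Type u} [CommRing B] [IsLocalRing B] [IsNoetherianRing B] {t : B}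
    (ht : t ∈ maximalIdeal B) (hreg : IsSMulRegular B t)
    [IsAdicComplete (Ideal.span {t}) B] [IsLocalRing (B ⧸ Ideal.span {t ^ (0 + 1)})]
    (hd : (4 : ℕ∞) ≤ LocCoh.depth (B ⧸ Ideal.span {t ^ (0 + 1)}) (B ⧸ Ideal.span {t ^ (0 + 1)}))
    (hq : ∀ q : PrimeSpectrum B, t ∉ q.asIdeal → ringKrullDim (B ⧸ q.asIdeal) = 1 →
      (2 : ℕ∞) ≤ LocCoh.depth (Localization.AtPrime q.asIdeal) (Localization.AtPrime q.asIdeal) ∧
        ∀ (K : Type u) [Fintype K] (f : K → Localization.AtPrime q.asIdeal), IsCover f →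
          ∀ T, IsCocycle f T → Triv f T)
    (htriv : ∀ (K : Type u) [Fintype K] (f : K → B), IsCover f → ∀ T, IsCocycle f T → Triv f T) :
    ParaF.PicTrivial (FEt.puncturedSpec (B ⧸ Ideal.span {t ^ (0 + 1)}) : Scheme.{u}) := by
  classical
  haveI : IsLocalHom (πn t 0) := IsLocalHom.of_surjective _ Ideal.Quotient.mk_surjective
  intro N hN
  obtain ⟨K, _, f₀, hf₀, e, he⟩ := exists_frames hN
  obtain ⟨T, hT, hte⟩ := exists_cocycle hf₀.mem e he
  choose f hf using fun k => Ideal.Quotient.mk_surjective (f₀ k)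
  obtain rfl : fn t f 0 = f₀ := funext hf
  obtain ⟨L, _, g, hg, S, hS, σ, hσ, v, hvu, hv⟩ := exists_lift_cocycle ht hreg hd hq hf₀ hT
  have hg₀ : IsCover (fn t g 0) := isCover_fn hg 0
  have hle : ∀ l, Vo (B ⧸ Ideal.span {t ^ (0 + 1)}) (fn t g 0 l) ≤ Vo _ (fn t f 0 (σ l)) := by
    intro l x (hx : fn t g 0 l ∉ x.1.asIdeal) (h : fn t f 0 (σ l) ∈ x.1.asIdeal)
    exact hx (x.1.asIdeal.mem_of_dvd (hσ l) h)
  let e' := fun l => AModX.res N (hle l) (e (σ l))
  refine nonempty_iso_of_triv hg₀ e' (fun l => (he (σ l)).res (hle l))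
    (t := fun k l => res _ _ (mul_dvd_mul (hσ k) (hσ l)) (T (σ k) (σ l))) (fun k l => ?_) ?_
  · have h1 := congrArg (AModX.res N (inf_le_inf (hle k) (hle l))) (hte (σ k) (σ l))
    simp only [res_smul, AModX.res_res] at h1
    simp only [e', AModX.res_res]
    rw [toSec_res (image_Vo_inf _ (h := fn t f 0 (σ l)) (hf₀.mem (σ k))) _ (inf_le_inf (hle k) (hle l))]
    exact h1
  · obtain ⟨a, ha, hau⟩ := htriv L g hg S hS
    choose w hw using fun l => (hvu l).exists_right_inv
    refine ⟨fun l => pushF (πn t 0) (f := g) (fn t g 0) (fun _ => rfl) a l * w l, fun k l => ?_,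
      fun l => ((hau l).map _).mul (IsUnit.of_mul_eq_one_right _ (hw l))⟩
    have h1 := isSect_push (πn t 0) (g := fn t g 0) (fun _ => rfl) ha k l
    have h2 := hv k l
    have h3 := congrArg (r₂ (fn t g 0) k l) (hw l)
    have h4 := congrArg (r₁ (fn t g 0) k l) (hw k)
    rw [RingHom.map_mul, map_one] at h3 h4
    rw [RingHom.map_mul, RingHom.map_mul]
    linear_combination r₂ (fn t g 0) k l (w l) * h1 -
      r₁ (fn t g 0) k l (pushF (πn t 0) (f := g) (fn t g 0) (fun _ => rfl) a k) * r₂ (fn t g 0) k l (w l) *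
        r₁ (fn t g 0) k l (w k) * h2 +
      r₁ (fn t g 0) k l (pushF (πn t 0) (f := g) (fn t g 0) (fun _ => rfl) a k) * r₁ (fn t g 0) k l (w k) *
        res _ _ (mul_dvd_mul (hσ k) (hσ l)) (T (σ k) (σ l)) * h3 -
      r₁ (fn t g 0) k l (pushF (πn t 0) (f := g) (fn t g 0) (fun _ => rfl) a k) * r₂ (fn t g 0) k l (w l) *
        push (πn t 0) (fn t g 0) (fun _ => rfl) S k l * h4

/-- Triviality of cocycles descends along a flat local map with trivial closed fibre. -/
theorem triv_descend {A C : Type u} [CommRing A] [CommRing C] [IsLocalRing A] [IsLocalRing C] [IsNoetherianRing C]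
    (φ : A →+* C) (hflat : φ.Flat) [IsLocalHom φ] (hmax : (maximalIdeal A).map φ = maximalIdeal C)
    (hd : (2 : ℕ∞) ≤ LocCoh.depth C C)
    (h : ∀ (K : Type u) [Fintype K] (g : K → C), IsCover g → ∀ T, IsCocycle g T → Triv g T)
    {K : Type u} [Fintype K] {f : K → A} (hf : IsCover f) {T : ∀ k l, Ov (f k * f l)} (hT : IsCocycle f T) :
    Triv f T := by
  letI := φ.toAlgebra
  haveI : Module.Flat A C := hflat
  haveI : IsLocalHom (algebraMap A C) := ‹IsLocalHom φ›
  haveI : Module.FaithfullyFlat A C := Module.FaithfullyFlat.of_flat_of_isLocalHom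
  have hg : IsCover fun k => φ (f k) := isCover_push φ (fun P hP => PrimeSpectrum.ext
    (le_antisymm (le_maximalIdeal P.isPrime.ne_top) (by
      show maximalIdeal C ≤ _
      rw [← hmax]
      exact Ideal.map_le_iff_le_comap.2 hP))) (fun _ => rfl) hf
  exact triv_of_flat (C := C) hd (g := fun k => φ (f k)) (fun _ => rfl) hg
    (h K _ hg _ (isCocycle_push φ (fun _ => rfl) hT))

theorem map_maximalIdeal_ringEquiv {A C : Type u} [CommRing A] [CommRing C] [IsLocalRing A] [IsLocalRing C]
    (e : A ≃+* C) : (maximalIdeal A).map e.toRingHom = maximalIdeal C :=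
  IsLocalRing.map_maximalIdeal_of_surjective e.toRingHom e.surjective

/-- Triviality of cocycles passes along isomorphisms. -/
theorem triv_of_ringEquiv {A C : Type u} [CommRing A] [CommRing C] [IsLocalRing A] [IsLocalRing C] [IsNoetherianRing C]
    (e : A ≃+* C) (hd : (2 : ℕ∞) ≤ LocCoh.depth C C)
    (h : ∀ (K : Type u) [Fintype K] (g : K → C), IsCover g → ∀ T, IsCocycle g T → Triv g T)
    {K : Type u} [Fintype K] {f : K → A} (hf : IsCover f) {T : ∀ k l, Ov (f k * f l)} (hT : IsCocycle f T) :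
    Triv f T :=
  haveI : IsLocalHom e.toRingHom := IsLocalHom.of_surjective _ e.surjective
  triv_descend e.toRingHom (RingHom.Flat.of_bijective e.bijective) (map_maximalIdeal_ringEquiv e) hd h hf hT

/-- A regular local ring cut by a regular sequence has depth equal to its dimension. -/
theorem depth_eq_dim_ofList {R : Type u} [CommRing R] [IsRegularLocalRing R] {rs : List R}
    (hreg : RingTheory.Sequence.IsWeaklyRegular R rs) (hmem : ∀ r ∈ rs, r ∈ maximalIdeal R)
    [IsLocalRing (R ⧸ Ideal.ofList rs)] :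
    ((LocCoh.depth (R ⧸ Ideal.ofList rs) (R ⧸ Ideal.ofList rs) : ℕ∞) : WithBot ℕ∞) =
      ringKrullDim (R ⧸ Ideal.ofList rs) := by
  have h1 := LC.isCM_quot_ofList R (AvramovLib.isCM_of_regular R).supportDim_eq_depth hreg hmem
  rw [show (Ideal.ofList rs • ⊤ : Submodule R R) = Ideal.ofList rs by rw [smul_eq_mul, Ideal.mul_top]] at h1
  unfold LocCoh.IsCohenMacaulayModule at h1
  rw [Module.supportDim_quotient_eq_ringKrullDim,
    Groth.Agent.S7137.depth_eq_of_surjective (R := R) (S := R ⧸ Ideal.ofList rs) Ideal.Quotient.mk_surjective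
      (R ⧸ Ideal.ofList rs)] at h1
  exact h1.symm

theorem le_depth_ofList {R : Type u} [CommRing R] [IsRegularLocalRing R] {rs : List R}
    (hreg : RingTheory.Sequence.IsWeaklyRegular R rs) (hmem : ∀ r ∈ rs, r ∈ maximalIdeal R)
    [IsLocalRing (R ⧸ Ideal.ofList rs)] {n : ℕ} (hdim : (n : WithBot ℕ∞) ≤ ringKrullDim (R ⧸ Ideal.ofList rs)) :
    (n : ℕ∞) ≤ LocCoh.depth (R ⧸ Ideal.ofList rs) (R ⧸ Ideal.ofList rs) := by
  rw [← depth_eq_dim_ofList hreg hmem] at hdim
  exact WithBot.coe_le_coe.1 (by exact_mod_cast hdim)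

theorem four_le_dim {A : Type u} [CommRing A] [IsLocalRing A] [IsNoetherianRing A]
    (h : (4 : ℕ∞) ≤ LocCoh.depth A A) : (4 : WithBot ℕ∞) ≤ ringKrullDim A := by
  have h1 : (((4 : ℕ) : ℕ∞) : WithBot ℕ∞) ≤ ((LocCoh.depth A A : ℕ∞) : WithBot ℕ∞) := WithBot.coe_le_coe.2 h
  exact le_trans (by simpa using h1) RelCodim6.depth_le_dim

/-- The statement for regular sequences of a given length. -/
def CITriv (r : ℕ) : Prop :=
  ∀ (R : Type u) [CommRing R] [IsRegularLocalRing R] (rs : List R), rs.length = r →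
    (∀ x ∈ rs, x ∈ maximalIdeal R) → RingTheory.Sequence.IsWeaklyRegular R rs →
    ∀ [IsLocalRing (R ⧸ Ideal.ofList rs)], (4 : WithBot ℕ∞) ≤ ringKrullDim (R ⧸ Ideal.ofList rs) →
    ∀ (K : Type u) [Fintype K] (f : K → R ⧸ Ideal.ofList rs), IsCover f → ∀ T, IsCocycle f T → Triv f T

theorem triv_ci_step (r : ℕ) (ih : CITriv.{u} r) (R : Type u) [CommRing R] [IsRegularLocalRing R]
    (S : Type u) [CommRing S] [IsRegularLocalRing S] [Algebra R S] [Module.Flat R S]
    [IsLocalHom (algebraMap R S)] [IsAdicComplete (maximalIdeal S) S]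
    (hmax : (maximalIdeal R).map (algebraMap R S) = maximalIdeal S)
    (rs' : List R) (x : R) (hlen' : rs'.length = r) (hmem : ∀ y ∈ rs' ++ [x], y ∈ maximalIdeal R)
    (hreg : RingTheory.Sequence.IsWeaklyRegular R (rs' ++ [x]))
    [IsLocalRing (R ⧸ Ideal.ofList (rs' ++ [x]))]
    (hdim : (4 : WithBot ℕ∞) ≤ ringKrullDim (R ⧸ Ideal.ofList (rs' ++ [x])))
    (K : Type u) [Fintype K] (f : K → R ⧸ Ideal.ofList (rs' ++ [x])) (hf : IsCover f)
    (T : ∀ k l, Ov (f k * f l)) (hT : IsCocycle f T) : Triv f T := by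
  let ι := algebraMap R S
  have hmem' : ∀ y ∈ (rs' ++ [x]).map ι, y ∈ maximalIdeal S := fun y hy => by
    obtain ⟨z, hz, rfl⟩ := List.mem_map.1 hy
    exact hmax.le (Ideal.mem_map_of_mem _ (hmem z hz))
  have hreg' : RingTheory.Sequence.IsWeaklyRegular S ((rs' ++ [x]).map ι) := hreg.of_flat
  have hmem'' : ∀ y ∈ rs'.map ι, y ∈ maximalIdeal S := fun y hy => hmem' y (by simp_all [List.map_append])
  rw [List.map_append, List.map_singleton, RingTheory.Sequence.isWeaklyRegular_append_iff'] at hreg'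
  let I : Ideal S := Ideal.ofList (rs'.map ι)
  have hI : I ≤ maximalIdeal S := Ideal.span_le.2 fun y hy => hmem'' y hy
  haveI : Nontrivial (S ⧸ I) :=
    Ideal.Quotient.nontrivial_iff.2 fun e => (maximalIdeal.isMaximal S).ne_top (top_le_iff.1 (e ▸ hI))
  haveI : IsLocalRing (S ⧸ I) := .of_surjective' (Ideal.Quotient.mk I) Ideal.Quotient.mk_surjective
  haveI : IsAdicComplete (maximalIdeal (S ⧸ I)) (S ⧸ I) := CILib.isAdicComplete_quotient I
  let t : S ⧸ I := Ideal.Quotient.mk I (ι x)
  have ht : t ∈ maximalIdeal (S ⧸ I) := by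
    rw [← IsLocalRing.map_maximalIdeal_of_surjective (Ideal.Quotient.mk I) Ideal.Quotient.mk_surjective]
    exact Ideal.mem_map_of_mem _ (hmem' _ (by simp [ι]))
  haveI : IsAdicComplete (Ideal.span {t}) (S ⧸ I) :=
    Groth.Agent.S0546.result (S ⧸ I) _ _ ((Ideal.span_singleton_le_iff_mem _).2 ht)
      (Submodule.fg_span_singleton t) (S ⧸ I)
  have hregt : IsSMulRegular (S ⧸ I) t := by
    have h1 := ((RingTheory.Sequence.isWeaklyRegular_cons_iff _ _ _).1 hreg'.2).1
    intro a b hab
    obtain ⟨a, rfl⟩ := Ideal.Quotient.mk_surjective a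
    obtain ⟨b, rfl⟩ := Ideal.Quotient.mk_surjective b
    have h2 := @h1 (Submodule.Quotient.mk a) (Submodule.Quotient.mk b) ?_
    · rw [Submodule.Quotient.eq] at h2
      rw [Ideal.Quotient.eq]
      simpa [smul_eq_mul] using h2
    · simp only [smul_eq_mul, t, ← map_mul, Ideal.Quotient.eq] at hab
      refine (Submodule.Quotient.eq _).2 ?_
      simpa [smul_eq_mul, mul_sub, I] using hab
  haveI := isLocalRing_quot ht 0
  have hsup : I ⊔ Ideal.span {ι x} = (Ideal.ofList (rs' ++ [x])).map ι := by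
    rw [Ideal.map_ofList, List.map_append, List.map_singleton, Ideal.ofList_append, Ideal.ofList_singleton]
  have hspan : Ideal.span {t ^ (0 + 1)} = (Ideal.span {ι x}).map (Ideal.Quotient.mk I) := by
    rw [zero_add, pow_one, Ideal.map_span, Set.image_singleton]
  let e : (S ⧸ I) ⧸ Ideal.span {t ^ (0 + 1)} ≃+* S ⧸ (Ideal.ofList (rs' ++ [x])).map ι :=
    ((Ideal.quotEquivOfEq hspan).trans (DoubleQuot.quotQuotEquivQuotSup I (Ideal.span {ι x}))).trans
      (Ideal.quotEquivOfEq hsup)
  let τ : R ⧸ Ideal.ofList (rs' ++ [x]) →+* (S ⧸ I) ⧸ Ideal.span {t ^ (0 + 1)} :=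
    e.symm.toRingHom.comp (Ideal.quotientMap _ ι Ideal.le_comap_map)
  have hτflat : τ.Flat := RingHom.Flat.comp
    ((RamSam24.flat_quot_iff_quotientMap (C := S) _).1 ((NFlat6.flat_quot_iff _ S).mpr inferInstance))
    (RingHom.Flat.of_bijective e.symm.bijective)
  have hτmk : τ.comp (Ideal.Quotient.mk _) = ((Ideal.Quotient.mk _).comp (Ideal.Quotient.mk I)).comp ι := by
    refine RingHom.ext fun a => e.injective ?_
    simp [τ]
    rfl
  have hτmax : (maximalIdeal (R ⧸ Ideal.ofList (rs' ++ [x]))).map τ = maximalIdeal _ := by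
    rw [← IsLocalRing.map_maximalIdeal_of_surjective (Ideal.Quotient.mk (Ideal.ofList (rs' ++ [x])))
      Ideal.Quotient.mk_surjective, Ideal.map_map, hτmk, ← Ideal.map_map, hmax, ← Ideal.map_map,
      IsLocalRing.map_maximalIdeal_of_surjective (Ideal.Quotient.mk I) Ideal.Quotient.mk_surjective,
      IsLocalRing.map_maximalIdeal_of_surjective _ Ideal.Quotient.mk_surjective]
  haveI : IsLocalHom τ := ((IsLocalRing.local_hom_TFAE τ).out 0 2).mpr hτmax.le
  have hdC : (4 : ℕ∞) ≤ LocCoh.depth ((S ⧸ I) ⧸ Ideal.span {t ^ (0 + 1)}) ((S ⧸ I) ⧸ Ideal.span {t ^ (0 + 1)}) :=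
    le_trans (le_depth_ofList hreg hmem (n := 4) (by exact_mod_cast hdim))
      (RamSam24.depth_le_of_flat τ hτflat inferInstance)
  have hdB : (5 : ℕ∞) ≤ LocCoh.depth (S ⧸ I) (S ⧸ I) := by
    haveI : Nontrivial ((S ⧸ I) ⧸ Ideal.span {t}) :=
      (Ideal.quotEquivOfEq (by rw [zero_add, pow_one] :
        Ideal.span {t ^ (0 + 1)} = Ideal.span {t})).symm.toEquiv.nontrivial
    haveI : IsLocalRing ((S ⧸ I) ⧸ Ideal.span {t}) :=
      .of_surjective' (Ideal.quotEquivOfEq (by rw [zero_add, pow_one] :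
        Ideal.span {t ^ (0 + 1)} = Ideal.span {t})).toRingHom (RingEquiv.surjective _)
    refine (depth_quotient_succ ht hregt 4).1 ?_
    rw [← RamSam24.depth_eq_of_ringEquiv (Ideal.quotEquivOfEq (by rw [zero_add, pow_one] :
        Ideal.span {t ^ (0 + 1)} = Ideal.span {t}))]
    exact hdC
  have hdimB : (4 : WithBot ℕ∞) ≤ ringKrullDim (S ⧸ I) :=
    four_le_dim (le_trans (by norm_num) hdB)
  have hq : ∀ q : PrimeSpectrum (S ⧸ I), t ∉ q.asIdeal → ringKrullDim ((S ⧸ I) ⧸ q.asIdeal) = 1 →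
      (2 : ℕ∞) ≤ LocCoh.depth (Localization.AtPrime q.asIdeal) (Localization.AtPrime q.asIdeal) ∧
        ∀ (K : Type u) [Fintype K] (f : K → Localization.AtPrime q.asIdeal), IsCover f →
          ∀ T, IsCocycle f T → Triv f T := by
    intro q _ hq1
    let Q := q.asIdeal.comap (Ideal.Quotient.mk I)
    have hIQ : I ≤ Q := fun y hy => by
      show Ideal.Quotient.mk I y ∈ q.asIdeal
      rw [Ideal.Quotient.eq_zero_iff_mem.2 hy]; exact zero_mem _
    haveI := RegLoc6.isRegularLocalRing_localization S Q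
    haveI : IsNoetherianRing (Localization.AtPrime q.asIdeal) :=
      IsLocalization.isNoetherianRing q.asIdeal.primeCompl _ inferInstance
    obtain ⟨ψ⟩ := RegLoc6.exists_quotLocalEquiv I Q q.asIdeal rfl
    let j := algebraMap S (Localization.AtPrime Q)
    have hmapI : I.map j = Ideal.ofList ((rs'.map ι).map j) := Ideal.map_ofList j _
    let e₁ : Localization.AtPrime Q ⧸ Ideal.ofList ((rs'.map ι).map j) ≃+* Localization.AtPrime q.asIdeal :=
      (Ideal.quotEquivOfEq hmapI.symm).trans ψ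
    haveI : Nontrivial (Localization.AtPrime Q ⧸ Ideal.ofList ((rs'.map ι).map j)) := e₁.toEquiv.nontrivial
    haveI : IsLocalRing (Localization.AtPrime Q ⧸ Ideal.ofList ((rs'.map ι).map j)) :=
      .of_surjective' (Ideal.Quotient.mk _) Ideal.Quotient.mk_surjective
    have hd4 : (4 : ℕ∞) ≤ LocCoh.depth (Localization.AtPrime q.asIdeal) (Localization.AtPrime q.asIdeal) := by
      have h1 := depth_le_atPrime_add q.asIdeal
      rw [hq1, ← WithBot.coe_one, ← WithBot.coe_add, WithBot.coe_le_coe] at h1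
      exact (ENat.addLECancellable_of_ne_top ENat.one_ne_top).add_le_add_iff_right.1
        (show (4 : ℕ∞) + 1 ≤ _ + 1 from le_trans hdB h1)
    have hd2 := RamSam24.depth_eq_of_ringEquiv e₁
    have hdim' : (4 : WithBot ℕ∞) ≤ ringKrullDim (Localization.AtPrime Q ⧸ Ideal.ofList ((rs'.map ι).map j)) :=
      four_le_dim (hd2 ▸ hd4)
    refine ⟨le_trans (by norm_num) hd4, fun K' _ f' hf' T' hT' => triv_of_ringEquiv e₁.symm ?_ ?_ hf' hT'⟩
    · rw [hd2]; exact le_trans (by norm_num) hd4
    · exact ih (Localization.AtPrime Q) ((rs'.map ι).map j) (by simp [hlen'])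
        (fun y hy => by
          obtain ⟨z, hz, rfl⟩ := List.mem_map.1 hy
          exact (IsLocalization.AtPrime.to_map_mem_maximal_iff _ Q z).2 (hIQ (Ideal.subset_span hz)))
        (RingTheory.Sequence.IsWeaklyRegular.of_isLocalization (Localization.AtPrime Q) Q.primeCompl hreg'.1) hdim'
  refine triv_descend τ hτflat hτmax (le_trans (by norm_num) hdC)
    (fun _ _ _ hg _ hT' => triv_of_picTrivial
      (picTrivial_hypersurface ht hregt hdC hq (ih S (rs'.map ι) (by simp [hlen']) hmem'' hreg'.1 hdimB)) hg hT')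
    hf hT

/-- Cocycles of units on the punctured spectrum of a complete intersection of dimension at least four are trivial. -/
theorem triv_ci : ∀ r : ℕ, CITriv.{u} r := by
  intro r
  induction r with
  | zero =>
    intro R _ _ rs hlen _ _ _ hdim K _ f hf T hT
    obtain rfl := List.length_eq_zero_iff.1 hlen
    let e : R ⧸ Ideal.ofList ([] : List R) ≃+* R :=
      (Ideal.quotEquivOfEq Ideal.ofList_nil).trans (RingEquiv.quotientBot R)
    obtain ⟨_, _⟩ := RegUFD.ufd R
    rw [ringKrullDim_eq_of_ringEquiv e] at hdim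
    have hd : (2 : ℕ∞) ≤ LocCoh.depth R R :=
      ParaFX.two_le_depth_of_normal R (le_trans (by norm_num) hdim)
    exact triv_of_ringEquiv e hd (fun _ _ _ hg _ hT' => triv_of_picTrivial (ParaFX.picTrivial_punctured_of_ufd R) hg hT')
      hf hT
  | succ r ih =>
    intro R _ _ rs hlen hmem hreg _ hdim K _ f hf T hT
    obtain ⟨rs', x, rfl⟩ : ∃ rs' x, rs = rs' ++ [x] := by
      rcases List.eq_nil_or_concat rs with rfl | ⟨rs', x, rfl⟩
      · simp at hlen
      · exact ⟨rs', x, List.concat_eq_append⟩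
    have hlen' : rs'.length = r := by simpa using hlen
    haveI := CILib.isRegularLocalRing_adicCompletion R
    haveI hcS := CILib.isAdicComplete_adicCompletion R
    haveI : Module.Flat R (AdicCompletion (maximalIdeal R) R) := AdicCompletion.flat_of_isNoetherian _
    haveI : IsLocalHom (algebraMap R (AdicCompletion (maximalIdeal R) R)) :=
      AdicCompletion.algebraMap_isLocalHom_of_fg (IsNoetherian.noetherian _)
    have hmax := (AdicCompletion.maximalIdeal_eq_map (R := R)).symm
    exact triv_ci_step r ih R (AdicCompletion (maximalIdeal R) R) hmax rs' x hlen' hmem hreg hdim K f hf T hT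

/-- A complete intersection of dimension at least four is parafactorial. -/
theorem isParafactorial_ci {A : Type u} [CommRing A] [IsLocalRing A] [IsNoetherianRing A] {R : Type u} [CommRing R]
    [IsRegularLocalRing R] {rs : List R} (hmem : ∀ r ∈ rs, r ∈ maximalIdeal R)
    (hreg : RingTheory.Sequence.IsWeaklyRegular R rs) (e : A ≃+* R ⧸ Ideal.ofList rs)
    (hdim : (4 : WithBot ℕ∞) ≤ ringKrullDim A) : ParaF.IsParafactorialLocalRing A := by
  haveI : Nontrivial (R ⧸ Ideal.ofList rs) := e.symm.toEquiv.nontrivial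
  haveI : IsLocalRing (R ⧸ Ideal.ofList rs) := .of_surjective' (Ideal.Quotient.mk _) Ideal.Quotient.mk_surjective
  rw [ringKrullDim_eq_of_ringEquiv e] at hdim
  have hd : (4 : ℕ∞) ≤ LocCoh.depth (R ⧸ Ideal.ofList rs) (R ⧸ Ideal.ofList rs) :=
    le_depth_ofList hreg hmem (n := 4) (by exact_mod_cast hdim)
  have hdA : (2 : ℕ∞) ≤ LocCoh.depth A A := by
    rw [RamSam24.depth_eq_of_ringEquiv e]; exact le_trans (by norm_num) hd
  exact (ParaFX.isParafactorialLocalRing_iff A).2 ⟨ParaFX.punctured_bijective A hdA,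
    picTrivial_of_triv fun K _ f hf T hT => triv_of_ringEquiv e (le_trans (by norm_num) hd)
      (triv_ci rs.length R rs rfl hmem hreg hdim) hf hT⟩

end Groth.Agent.SGA11
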