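import Groth.Agent.SGA11.FrameIso
import Groth.Agent.SGA11.CI
import Groth.Agent.PinchPO7.FramePull
import Groth.Agent.PicClLib.Basic
import Groth.Agent.PicU24.Tower
import Groth.Prelude.Def_Formal2

/-!
# Restriction of invertible modules to a punctured hypersurface is bijective
-/

set_option autoImplicit false
set_option backward.isDefEq.respectTransparency false
set_option backward.isDefEq.respectTransparency.types false
set_option linter.style.haveILetI false
universe u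

open CategoryTheory CategoryTheory.Limits AlgebraicGeometry IsLocalRing TopologicalSpace
open Groth.Agent.AModX Groth.Agent.InvX

namespace Groth.Agent.SGA11

open PicU24

noncomputable section

attribute [local instance] RamSam24.secAlg

/-- A cocycle on basic opens as a cocycle of units of the structure sheaf. -/
def toCo {R : Type u} [CommRing R] [IsLocalRing R] {K : Type u} {f : K → R} (hf : IsCover f)
    {t : ∀ k l, Ov (f k * f l)} (ht : IsCocycle f t) : H23.CocycleMod.Cocycle fun k => Vo R (f k) :=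
  { g := fun k l => ((ht.unit k l).map (toSec (image_Vo_inf R (h := f l) (hf.mem k)))).unit
    trans := fun k l m W hk hl hm' => by
      simp only [IsUnit.unit_spec]
      let W₀ := Vo R (f k) ⊓ Vo R (f l) ⊓ Vo R (f m)
      have hW : (FEt.puncturedSpec R).ι ''ᵁ W₀ = RamSam24.bOpen R (f k * f l * f m) := by
        show (FEt.puncturedSpec R).ι ''ᵁ (Vo R (f k) ⊓ Vo R (f l) ⊓ Vo R (f m)) = _
        rw [← Vo_mul, ← Vo_mul, image_Vo R (Ideal.mul_mem_right _ _ (Ideal.mul_mem_right _ _ (hf.mem k)))]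
      have hkl : W₀ ≤ Vo R (f k) ⊓ Vo R (f l) := inf_le_left
      have hlm : W₀ ≤ Vo R (f l) ⊓ Vo R (f m) := le_inf (inf_le_left.trans inf_le_right) inf_le_right
      have hkm : W₀ ≤ Vo R (f k) ⊓ Vo R (f m) := le_inf (inf_le_left.trans inf_le_left) inf_le_right
      have h1 := congrArg (resR (le_inf (le_inf hk hl) hm' : W ≤ W₀)) (congrArg (toSec hW) (ht.trans k l m))
      rw [map_mul, toSec_res (image_Vo_inf R (hf.mem k)) hW hkl, toSec_res (image_Vo_inf R (hf.mem l)) hW hlm,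
        toSec_res (image_Vo_inf R (hf.mem k)) hW hkm, map_mul, resR_resR, resR_resR, resR_resR] at h1
      rw [← h1, mul_comm] }

/-- An invertible module on the punctured hypersurface is the restriction of one on the punctured spectrum. -/
theorem exists_lift_module {B : Type u} [CommRing B] [IsLocalRing B] [IsNoetherianRing B] {t : B}
    (ht : t ∈ maximalIdeal B) (hreg : IsSMulRegular B t) [IsAdicComplete (Ideal.span {t}) B]
    [IsLocalRing (B ⧸ Ideal.span {t ^ (0 + 1)})]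
    (hd : (4 : ℕ∞) ≤ LocCoh.depth (B ⧸ Ideal.span {t ^ (0 + 1)}) (B ⧸ Ideal.span {t ^ (0 + 1)}))
    (hq : ∀ q : PrimeSpectrum B, t ∉ q.asIdeal → ringKrullDim (B ⧸ q.asIdeal) = 1 →
      (2 : ℕ∞) ≤ LocCoh.depth (Localization.AtPrime q.asIdeal) (Localization.AtPrime q.asIdeal) ∧
        ∀ (K : Type u) [Fintype K] (f : K → Localization.AtPrime q.asIdeal), IsCover f →
          ∀ T, IsCocycle f T → Triv f T)
    (ρ : (FEt.puncturedSpec (B ⧸ Ideal.span {t ^ (0 + 1)})).toScheme ⟶ (FEt.puncturedSpec B).toScheme)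
    (hρ : ρ ≫ (FEt.puncturedSpec B).ι =
      (FEt.puncturedSpec (B ⧸ Ideal.span {t ^ (0 + 1)})).ι ≫ Spec.map (CommRingCat.ofHom (πn t 0)))
    {N : (FEt.puncturedSpec (B ⧸ Ideal.span {t ^ (0 + 1)})).toScheme.Modules} (hN : PicF.IsInvertible N) :
    ∃ L : (FEt.puncturedSpec B).toScheme.Modules, PicF.IsInvertible L ∧
      Nonempty ((Scheme.Modules.pullback ρ).obj L ≅ N) := by
  classical
  haveI : IsLocalHom (πn t 0) := IsLocalHom.of_surjective _ Ideal.Quotient.mk_surjective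
  obtain ⟨K, _, f₀, hf₀, e, he⟩ := exists_frames hN
  obtain ⟨T, hT, hte⟩ := exists_cocycle hf₀.mem e he
  choose f hf using fun k => Ideal.Quotient.mk_surjective (f₀ k)
  obtain rfl : fn t f 0 = f₀ := funext hf
  obtain ⟨L, _, g, hg, S, hS, σ, hσ, v, hvu, hv⟩ := exists_lift_cocycle ht hreg hd hq hf₀ hT
  let c := toCo hg hS
  have hsup : (⨆ l, Vo B (g l)) = ⊤ := top_le_iff.1 fun x _ => Opens.mem_iSup.2 (exists_mem_Vo hg x)
  refine ⟨H23.CocycleMod.mod c, H23.CocycleMod.isInvertible c hsup, ?_⟩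
  have hg₀ : IsCover (fn t g 0) := isCover_fn hg 0
  have hle₁ : ∀ l, Vo (B ⧸ Ideal.span {t ^ (0 + 1)}) (fn t g 0 l) ≤ ρ ⁻¹ᵁ Vo B (g l) := fun l =>
    (preimage_Vo (πn t 0) ρ hρ (g l)).ge
  have hle₂ : ∀ l, Vo (B ⧸ Ideal.span {t ^ (0 + 1)}) (fn t g 0 l) ≤ Vo _ (fn t f 0 (σ l)) := by
    intro l x (hx : fn t g 0 l ∉ x.1.asIdeal) (h : fn t f 0 (σ l) ∈ x.1.asIdeal)
    exact hx (x.1.asIdeal.mem_of_dvd (hσ l) h)
  choose w hw using fun l => (hvu l).exists_right_inv
  let τ : ∀ l, Ov (fn t g 0 l) →+* _ := fun l => toSec (image_Vo _ (hg₀.mem l))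
  let E' := fun l => τ l (w l) • AModX.res N (hle₂ l) (e (σ l))
  refine nonempty_iso_of_transition (fun l => Vo (B ⧸ Ideal.span {t ^ (0 + 1)}) (fn t g 0 l))
    (exists_mem_Vo hg₀) (fun l => AModX.res _ (hle₁ l) (pullElt ρ (H23.CocycleMod.frame c l)))
    (fun l => (isFrame_pullElt ρ (H23.CocycleMod.isFrame_frame c l)).res (hle₁ l)) E'
    (fun l => ((he (σ l)).res (hle₂ l)).isUnit_smul ((IsUnit.of_mul_eq_one_right _ (hw l)).map _))
    (fun k l => toSec (image_Vo_inf _ (h := fn t g 0 l) (hg₀.mem k)) (push (πn t 0) (fn t g 0) (fun _ => rfl) S k l))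
    (fun k l => ?_) (fun k l => ?_)
  · have h0 : AModX.res (H23.CocycleMod.mod c) inf_le_left (H23.CocycleMod.frame c k) =
        toSec (image_Vo_inf B (h := g l) (hg.mem k)) (S k l) •
          AModX.res (H23.CocycleMod.mod c) inf_le_right (H23.CocycleMod.frame c l) :=
      H23.CocycleMod.res_frame c k l
    have hWW : Vo _ (fn t g 0 k) ⊓ Vo _ (fn t g 0 l) ≤ ρ ⁻¹ᵁ (Vo B (g k) ⊓ Vo B (g l)) :=
      fun z hz => ⟨hle₁ k hz.1, hle₁ l hz.2⟩
    have hA := appLE_toSec (πn t 0) ρ hρ (image_Vo_inf B (h := g l) (hg.mem k))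
      (image_Vo_inf _ (h := fn t g 0 l) (hg₀.mem k)) hWW (dL (πn t 0) (fun _ => rfl) k l) (S k l)
    have h3 := congrArg (AModX.res ((Scheme.Modules.pullback ρ).obj (H23.CocycleMod.mod c)) hWW)
      (congrArg (pullElt ρ) h0)
    rw [PicU24.pullElt_smul, PicU24.pullElt_res, PicU24.pullElt_res] at h3
    simp only [res_smul, AModX.res_res] at h3 ⊢
    rw [show toSec (image_Vo_inf _ (h := fn t g 0 l) (hg₀.mem k)) (push (πn t 0) (fn t g 0) (fun _ => rfl) S k l) =
      _ from hA.symm]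
    exact h3
  · have h1 := congrArg (AModX.res N (inf_le_inf (hle₂ k) (hle₂ l))) (hte (σ k) (σ l))
    have hkey : r₁ (fn t g 0) k l (w k) * res _ _ (mul_dvd_mul (hσ k) (hσ l)) (T (σ k) (σ l)) =
        push (πn t 0) (fn t g 0) (fun _ => rfl) S k l * r₂ (fn t g 0) k l (w l) := by
      have h2 := hv k l
      have h3 := congrArg (r₂ (fn t g 0) k l) (hw l)
      have h4 := congrArg (r₁ (fn t g 0) k l) (hw k)
      rw [RingHom.map_mul, map_one] at h3 h4
      linear_combination r₁ (fn t g 0) k l (w k) * r₂ (fn t g 0) k l (w l) * h2 -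
        r₁ (fn t g 0) k l (w k) * res _ _ (mul_dvd_mul (hσ k) (hσ l)) (T (σ k) (σ l)) * h3 +
        push (πn t 0) (fn t g 0) (fun _ => rfl) S k l * r₂ (fn t g 0) k l (w l) * h4
    have h5 := congrArg (toSec (image_Vo_inf _ (h := fn t g 0 l) (hg₀.mem k))) hkey
    rw [map_mul, map_mul, toSec_res (image_Vo _ (hg₀.mem k)) _ inf_le_left,
      toSec_res (image_Vo _ (hg₀.mem l)) _ inf_le_right,
      toSec_res (image_Vo_inf _ (h := fn t f 0 (σ l)) (hf₀.mem (σ k))) _ (inf_le_inf (hle₂ k) (hle₂ l))] at h5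
    simp only [res_smul, AModX.res_res] at h1
    simp only [E', τ, res_smul, AModX.res_res]
    rw [smul_smul, ← h5, mul_smul, h1]

/-- The punctured hypersurface as a closed subscheme of the punctured spectrum. -/
theorem exists_iso_subscheme {B : Type u} [CommRing B] [IsLocalRing B] (I : Ideal B) [IsLocalRing (B ⧸ I)] :
    ∃ (ρ : (FEt.puncturedSpec (B ⧸ I)).toScheme ⟶ (FEt.puncturedSpec B).toScheme)
      (j : (FEt.puncturedSpec (B ⧸ I)).toScheme ≅
        ((Spec.map (CommRingCat.ofHom (Ideal.Quotient.mk I))).ker.comap (FEt.puncturedSpec B).ι).subscheme),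
      ρ ≫ (FEt.puncturedSpec B).ι = (FEt.puncturedSpec (B ⧸ I)).ι ≫ Spec.map (CommRingCat.ofHom (Ideal.Quotient.mk I)) ∧
      j.hom ≫ ((Spec.map (CommRingCat.ofHom (Ideal.Quotient.mk I))).ker.comap
        (FEt.puncturedSpec B).ι).subschemeι = ρ := by
  haveI : IsLocalHom (Ideal.Quotient.mk I) := IsLocalHom.of_surjective _ Ideal.Quotient.mk_surjective
  let p := Spec.map (CommRingCat.ofHom (Ideal.Quotient.mk I))
  let U := FEt.puncturedSpec B
  let U₀ := FEt.puncturedSpec (B ⧸ I)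
  haveI : IsClosedImmersion p := IsClosedImmersion.spec_of_surjective _ Ideal.Quotient.mk_surjective
  have hpre : p ⁻¹ᵁ U = U₀ := by
    ext x
    show PrimeSpectrum.comap (Ideal.Quotient.mk I) x ≠ closedPoint B ↔ x ≠ closedPoint (B ⧸ I)
    refine not_congr ⟨fun h => ?_, fun h => h ▸ IsLocalRing.comap_closedPoint _⟩
    exact PrimeSpectrum.comap_injective_of_surjective _ Ideal.Quotient.mk_surjective
      (h.trans (IsLocalRing.comap_closedPoint (Ideal.Quotient.mk I)).symm)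
  have hrange : Set.range (U₀.ι ≫ p).base ⊆ Set.range U.ι.base := by
    rw [Scheme.Opens.range_ι]
    rintro _ ⟨x, rfl⟩
    have hx : x.1 ∈ p ⁻¹ᵁ U := hpre.ge x.2
    exact hx
  let ρ : U₀.toScheme ⟶ U.toScheme := IsOpenImmersion.lift U.ι (U₀.ι ≫ p) hrange
  have hρ : ρ ≫ U.ι = U₀.ι ≫ p := IsOpenImmersion.lift_fac _ _ _
  have hpb : IsPullback ρ U₀.ι U.ι p := IsOpenImmersion.isPullback ρ U₀.ι U.ι p hρ.symm (by
    rw [Scheme.Opens.opensRange_ι, Scheme.Opens.opensRange_ι, hpre])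
  have hpb' : IsPullback ρ (U₀.ι ≫ p.toImage) U.ι p.ker.subschemeι :=
    hpb.of_iso (Iso.refl _) (Iso.refl _) (asIso p.toImage) (Iso.refl _) (by simp) (by simp) (by simp)
      (by simp only [asIso_hom, Iso.refl_hom, Category.comp_id]; exact p.toImage_imageι.symm)
  refine ⟨ρ, hpb'.isoPullback ≪≫ (p.ker.comapIso U.ι).symm, hρ, ?_⟩
  simp only [Iso.trans_hom, Iso.symm_hom, Category.assoc]
  exact (congrArg (fun q => hpb'.isoPullback.hom ≫ q) (p.ker.comapIso_inv_subschemeι U.ι)).trans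
    hpb'.isoPullback_hom_fst

/-- Surjectivity on Picard groups. -/
theorem picPullbackSurjective_hypersurface {B : Type u} [CommRing B] [IsLocalRing B] [IsNoetherianRing B] {t : B}
    (ht : t ∈ maximalIdeal B) (hreg : IsSMulRegular B t) [IsAdicComplete (Ideal.span {t}) B]
    (I : Ideal B) (hI : I = Ideal.span {t ^ (0 + 1)}) [IsLocalRing (B ⧸ I)]
    (hd : (4 : ℕ∞) ≤ LocCoh.depth (B ⧸ I) (B ⧸ I))
    (hq : ∀ q : PrimeSpectrum B, t ∉ q.asIdeal → ringKrullDim (B ⧸ q.asIdeal) = 1 →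
      (2 : ℕ∞) ≤ LocCoh.depth (Localization.AtPrime q.asIdeal) (Localization.AtPrime q.asIdeal) ∧
        ∀ (K : Type u) [Fintype K] (f : K → Localization.AtPrime q.asIdeal), IsCover f →
          ∀ T, IsCocycle f T → Triv f T) :
    Formal2.PicPullbackSurjective
      ((Spec.map (CommRingCat.ofHom (Ideal.Quotient.mk I))).ker.comap (FEt.puncturedSpec B).ι).subschemeι := by
  subst hI
  obtain ⟨ρ, j, hρ, hj⟩ := exists_iso_subscheme (Ideal.span {t ^ (0 + 1)})
  intro L' hL'
  obtain ⟨L, hL, ⟨θ⟩⟩ := exists_lift_module ht hreg hd hq ρ hρ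
    (N := (Scheme.Modules.pullback j.hom).obj L') (PicClLib.isInvertible_pullback j.hom hL')
  refine ⟨L, hL, ⟨?_⟩⟩
  let s := ((Spec.map (CommRingCat.ofHom (Ideal.Quotient.mk (Ideal.span {t ^ (0 + 1)})))).ker.comap
    (FEt.puncturedSpec B).ι).subschemeι
  have back : ∀ M, (Scheme.Modules.pullback j.inv).obj ((Scheme.Modules.pullback j.hom).obj M) ≅ M := fun M =>
    (Scheme.Modules.pullbackComp j.inv j.hom).app M ≪≫ (Scheme.Modules.pullbackCongr j.inv_hom_id).app M ≪≫
      (Scheme.Modules.pullbackId _).app M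
  exact (back _).symm ≪≫ (Scheme.Modules.pullback j.inv).mapIso
    ((Scheme.Modules.pullbackComp j.hom s).app L ≪≫ (Scheme.Modules.pullbackCongr hj).app L ≪≫ θ) ≪≫ back L'

end

end Groth.Agent.SGA11
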