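import Groth.Agent.SGA11.CI
import Groth.Agent.ParaFX.UfdIff

/-!
# Complete intersections factorial in codimension three are factorial
-/

set_option autoImplicit false
set_option linter.style.haveILetI false
universe u

open IsLocalRing AlgebraicGeometry

namespace Groth.Agent.SGA11

theorem ufd_transfer {B C : Type u} [CommRing B] [CommRing C] (e : B ≃+* C)
    (h : IsDomain B ∧ UniqueFactorizationMonoid B) : IsDomain C ∧ UniqueFactorizationMonoid C := by
  obtain ⟨h1, h2⟩ := h
  have h3 : IsDomain C := e.symm.toMulEquiv.isDomain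
  exact ⟨h3, e.toMulEquiv.uniqueFactorizationMonoid h2⟩

/-- A complete intersection which is factorial in codimension at most three is factorial. -/
theorem ufd_of_ci {A : Type u} [CommRing A] [IsLocalRing A] [IsNoetherianRing A] {R : Type u} [CommRing R]
    [IsRegularLocalRing R] {rs : List R} (hreg : RingTheory.Sequence.IsWeaklyRegular R rs)
    (e : A ≃+* R ⧸ Ideal.ofList rs)
    (h : ∀ p : PrimeSpectrum A, ringKrullDim (Localization.AtPrime p.asIdeal) ≤ 3 →
      IsDomain (Localization.AtPrime p.asIdeal) ∧ UniqueFactorizationMonoid (Localization.AtPrime p.asIdeal)) :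
    IsDomain A ∧ UniqueFactorizationMonoid A := by
  classical
  let π : R →+* A := e.symm.toRingHom.comp (Ideal.Quotient.mk _)
  have key : ∀ p : PrimeSpectrum A, IsDomain (Localization.AtPrime p.asIdeal) ∧
      UniqueFactorizationMonoid (Localization.AtPrime p.asIdeal) := by
    intro p
    induction hn : p.asIdeal.height using WellFoundedLT.induction generalizing p with
    | ind n ih =>
    subst hn
    by_cases h3 : ringKrullDim (Localization.AtPrime p.asIdeal) ≤ 3
    · exact h p h3
    haveI : IsNoetherianRing (Localization.AtPrime p.asIdeal) :=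
      IsLocalization.isNoetherianRing p.asIdeal.primeCompl _ inferInstance
    have h4 : (4 : WithBot ℕ∞) ≤ ringKrullDim (Localization.AtPrime p.asIdeal) := by
      rw [IsLocalization.AtPrime.ringKrullDim_eq_height p.asIdeal] at h3 ⊢
      cases hh : p.asIdeal.height with
      | top => exact WithBot.coe_le_coe.2 (le_top : (4 : ℕ∞) ≤ ⊤)
      | coe m =>
        rw [hh] at h3
        have h3' : ¬ ((m : ℕ) : WithBot ℕ∞) ≤ ((3 : ℕ) : WithBot ℕ∞) := by simpa using h3
        have : 4 ≤ m := by
          by_contra hlt
          exact h3' (by exact_mod_cast (show m ≤ 3 by omega))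
        exact WithBot.coe_le_coe.2 (by exact_mod_cast this : (4 : ℕ∞) ≤ (m : ℕ∞))
    let p₀ : Ideal (R ⧸ Ideal.ofList rs) := p.asIdeal.comap e.symm.toRingHom
    let Q : Ideal R := p₀.comap (Ideal.Quotient.mk _)
    haveI := RegLoc6.isRegularLocalRing_localization R Q
    obtain ⟨ψ⟩ := RegLoc6.exists_quotLocalEquiv (Ideal.ofList rs) Q p₀ rfl
    have hM : (p₀.primeCompl).map e.symm.toMonoidHom = p.asIdeal.primeCompl := by
      ext x
      constructor
      · rintro ⟨y, hy, rfl⟩; exact hy
      · intro hx
        exact ⟨e x, by simpa [p₀, Ideal.primeCompl] using hx, e.symm_apply_apply x⟩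
    let e₁ : Localization.AtPrime p₀ ≃+* Localization.AtPrime p.asIdeal :=
      IsLocalization.ringEquivOfRingEquiv (Localization.AtPrime p₀) (Localization.AtPrime p.asIdeal) e.symm hM
    let j := algebraMap R (Localization.AtPrime Q)
    let e₂ : Localization.AtPrime p.asIdeal ≃+* Localization.AtPrime Q ⧸ Ideal.ofList (rs.map j) :=
      e₁.symm.trans (ψ.symm.trans (Ideal.quotEquivOfEq (Ideal.map_ofList j rs)))
    have hmemQ : ∀ r ∈ rs.map j, r ∈ maximalIdeal (Localization.AtPrime Q) := fun y hy => by
      obtain ⟨z, hz, rfl⟩ := List.mem_map.1 hy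
      refine (IsLocalization.AtPrime.to_map_mem_maximal_iff _ Q z).2 ?_
      show Ideal.Quotient.mk _ z ∈ p₀
      rw [Ideal.Quotient.eq_zero_iff_mem.2 (Ideal.subset_span (s := {r | r ∈ rs}) hz)]
      exact zero_mem _
    have hregQ := RingTheory.Sequence.IsWeaklyRegular.of_isLocalization (Localization.AtPrime Q) Q.primeCompl hreg
    have hpara := isParafactorial_ci hmemQ hregQ e₂ h4
    have hd : (2 : ℕ∞) ≤ LocCoh.depth (Localization.AtPrime p.asIdeal) (Localization.AtPrime p.asIdeal) := by
      haveI : Nontrivial (Localization.AtPrime Q ⧸ Ideal.ofList (rs.map j)) := e₂.symm.toEquiv.nontrivial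
      haveI : IsLocalRing (Localization.AtPrime Q ⧸ Ideal.ofList (rs.map j)) :=
        .of_surjective' (Ideal.Quotient.mk _) Ideal.Quotient.mk_surjective
      rw [RamSam24.depth_eq_of_ringEquiv e₂]
      rw [ringKrullDim_eq_of_ringEquiv e₂] at h4
      exact le_trans (by norm_num) (le_depth_ofList hregQ hmemQ (n := 4) (by exact_mod_cast h4))
    refine (ParaFX.ufd_iff_punctured _ (le_trans (by norm_num) h4)).2
      ⟨((ParaFX.isParafactorialLocalRing_iff _).1 hpara).2, hd, fun y hy => ?_⟩
    let y' : PrimeSpectrum (Localization.AtPrime p.asIdeal) := y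
    let p' : PrimeSpectrum A := ⟨y'.asIdeal.comap (algebraMap A _), inferInstance⟩
    have hlt : p'.asIdeal < p.asIdeal := by
      refine lt_of_le_of_ne ((Ideal.comap_mono (le_maximalIdeal y'.isPrime.ne_top)).trans
        (IsLocalization.AtPrime.under_maximalIdeal (Localization.AtPrime p.asIdeal) p.asIdeal).le) fun e' => ?_
      refine hy (PrimeSpectrum.ext (show y'.asIdeal = maximalIdeal _ from ?_))
      exact (IsLocalization.map_comap p.asIdeal.primeCompl (Localization.AtPrime p.asIdeal) y'.asIdeal).symm.trans
        ((congrArg (Ideal.map (algebraMap A _)) e').trans Localization.AtPrime.map_eq_maximalIdeal)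
    refine (ParaFX.stalk_ufd_iff _ y').2 (ufd_transfer
      (IsLocalization.localizationLocalizationAtPrimeIsoLocalization p.asIdeal.primeCompl y'.asIdeal).toRingEquiv
      (ih _ (Ideal.height_strict_mono_of_isPrime hlt) p' rfl))
  have hsub : ((closedPoint A).asIdeal.primeCompl : Submonoid A) ≤ IsUnit.submonoid A := fun x hx =>
    IsLocalRing.notMem_maximalIdeal.1 hx
  let σ : A ≃ₐ[A] Localization.AtPrime (closedPoint A).asIdeal := IsLocalization.atUnits A _ hsub
  exact ufd_transfer σ.toRingEquiv.symm (key (closedPoint A))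

end Groth.Agent.SGA11
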