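import Groth.Agent.SGA11.Seq

/-!
# The module of formal sections: finiteness, and generators near the hypersurface
-/

set_option autoImplicit false
set_option linter.style.haveILetI false
universe u

open IsLocalRing

namespace Groth.Agent.SGA11

open PicU24

variable {B : Type u} [CommRing B] {K : Type u} {t : B} {f : K → B}

theorem exists_span_of_complete [IsAdicComplete (Ideal.span {t}) B] {M : Type u} [AddCommGroup M] [Module B M]
    {ι : Type} [Fintype ι] (s : ι → M) (hs : ∀ x, ∃ (c : ι → B) (x' : M), x = ∑ j, c j • s j + t • x')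
    (hsep : ∀ x : M, (∀ i, ∃ x', x = t ^ i • x') → x = 0) (x : M) : ∃ c : ι → B, x = ∑ j, c j • s j := by
  classical
  choose c x' hx using hs
  let q : ℕ → M := fun p => x'^[p] x
  let C : ι → ℕ → B := fun j n => ∑ p ∈ Finset.range n, t ^ p * c (q p) j
  have hC : ∀ n, x = ∑ j, C j n • s j + t ^ n • q n := by
    intro n
    induction n with
    | zero => simp [C, q]
    | succ n ih =>
      have e : q (n + 1) = x' (q n) := Function.iterate_succ_apply' _ _ _
      rw [ih, e]
      conv_lhs => rw [hx (q n)]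
      simp only [C, Finset.sum_range_succ, add_smul, Finset.sum_add_distrib, smul_add, Finset.smul_sum, smul_smul,
        pow_succ]
      abel
  have hmn : ∀ j {m n}, m ≤ n → t ^ m ∣ C j n - C j m := by
    intro j m n h
    simp only [C, Finset.sum_range_sub_sum_range h]
    exact Finset.dvd_sum fun p hp => Dvd.dvd.mul_right (pow_dvd_pow t (Finset.mem_filter.1 hp).2) _
  have hex : ∀ j, ∃ L, ∀ n, t ^ n ∣ C j n - L := fun j => by
    obtain ⟨L, hL⟩ := IsPrecomplete.prec (I := Ideal.span {t}) inferInstance (f := C j) fun {m n} h => by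
      rw [SModEq.sub_mem, smul_eq_mul, Ideal.mul_top, Ideal.span_singleton_pow, Ideal.mem_span_singleton, ← neg_sub,
        dvd_neg]
      exact hmn j h
    refine ⟨L, fun n => ?_⟩
    have := hL n
    rwa [SModEq.sub_mem, smul_eq_mul, Ideal.mul_top, Ideal.span_singleton_pow, Ideal.mem_span_singleton] at this
  choose L hL using hex
  refine ⟨L, sub_eq_zero.1 (hsep _ fun i => ?_)⟩
  choose d hd using fun j => hL j i
  refine ⟨q i + ∑ j, d j • s j, ?_⟩
  rw [smul_add, Finset.smul_sum]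
  conv_lhs => rw [hC i]
  simp only [smul_smul, ← hd, sub_smul, Finset.sum_sub_distrib]
  abel

theorem det_smul_sum {M : Type u} [AddCommGroup M] [Module B M] {ι : Type} [Fintype ι] [DecidableEq ι]
    (X : Matrix ι ι B) (s : ι → M) (r : ι → B) (y : M) (hX : ∀ j, ∑ i, X j i • s i = r j • y) (c : ι → B) :
    ∃ w : B, X.det • (∑ j, c j • s j) = w • y := by
  refine ⟨∑ j, c j * ∑ i, X.adjugate j i * r i, ?_⟩
  have h1 : ∀ j, X.det • s j = (∑ i, X.adjugate j i * r i) • y := by
    intro j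
    calc X.det • s j = ∑ m, (X.adjugate * X) j m • s m := by
          rw [Matrix.adjugate_mul]
          simp [Matrix.one_apply, ite_smul]
      _ = ∑ i, X.adjugate j i • ∑ m, X i m • s m := by
          simp only [Matrix.mul_apply, Finset.sum_smul, Finset.smul_sum, smul_smul]
          exact Finset.sum_comm
      _ = _ := by simp only [hX, smul_smul, Finset.sum_smul]
  simp only [Finset.smul_sum, smul_comm X.det, h1, smul_smul, Finset.sum_smul]
  exact Finset.sum_congr rfl fun i _ => by rw [Finset.mul_sum, Finset.sum_smul]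

/-- Generators which are multiples of one element up to an element of the Jacobson radical. -/
theorem exists_det_smul {M : Type u} [AddCommGroup M] [Module B M] {ι : Type} [Fintype ι] (s : ι → M) (g r : ι → B)
    (C : ι → ι → B) (y : M) (h : ∀ j, g j • s j = r j • y + t • ∑ i, C j i • s i) :
    ∃ d : B, (∀ P : Ideal B, P.IsPrime → t ∈ P → (∀ j, g j ∉ P) → d ∉ P) ∧
      ∀ c : ι → B, ∃ w : B, d • (∑ j, c j • s j) = w • y := by
  classical
  let X : Matrix ι ι B := Matrix.diagonal g - t • Matrix.of fun j i => C j i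
  have hX : ∀ j, ∑ i, X j i • s i = r j • y := by
    intro j
    simp only [X, Matrix.sub_apply, Matrix.smul_apply, Matrix.of_apply, smul_eq_mul, sub_smul, Finset.sum_sub_distrib,
      mul_smul, ← Finset.smul_sum]
    rw [Finset.sum_eq_single j (fun i _ hi => by rw [Matrix.diagonal_apply_ne _ hi.symm, zero_smul])
      (fun h => absurd (Finset.mem_univ j) h), Matrix.diagonal_apply_eq, h j, add_sub_cancel_right]
  refine ⟨X.det, fun P hP htP hg hdet => ?_, det_smul_sum X s r y hX⟩
  have h1 : (Ideal.Quotient.mk P) X.det = ∏ j, Ideal.Quotient.mk P (g j) := by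
    rw [RingHom.map_det, ← Matrix.det_diagonal]
    congr 1
    ext i j
    by_cases h : i = j <;>
      simp [X, h, Matrix.diagonal, Ideal.Quotient.eq_zero_iff_mem.2 htP]
  rw [Ideal.Quotient.eq_zero_iff_mem.2 hdet, eq_comm, Finset.prod_eq_zero_iff] at h1
  obtain ⟨j, -, hj⟩ := h1
  exact hg j (Ideal.Quotient.eq_zero_iff_mem.1 hj)

/-- Evaluation of a sequence of families to every order. -/
noncomputable def evn (t : B) (f : K → B) : (ℕ → ∀ k, Ov (f k)) →ₗ[B] (∀ n k, Ov (fn t f n k)) where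
  toFun z n k := mv (πn t n) (f k) (fn t f n k) dvd_rfl (z n k)
  map_add' z z' := funext fun n => funext fun k => by simp only [Pi.add_apply, map_add]
  map_smul' r z := funext fun n => funext fun k => by
    simp only [Pi.smul_apply, Algebra.smul_def, RingHom.id_apply, map_mul, mv_algebraMap,
      IsScalarTower.algebraMap_apply B (B ⧸ Ideal.span {t ^ (n + 1)}) (Ov (fn t f n k)), Ideal.Quotient.algebraMap_eq]

/-- Compatible sequences of sections. -/
noncomputable def Sys.seqs (σ : Sys t f) : Submodule B (ℕ → ∀ k, Ov (f k)) where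
  carrier := {z | (∀ i, σ.Sect i (z i)) ∧ ∀ i k, Dv t (i + 1) (z (i + 1) k - z i k)}
  add_mem' := by
    rintro z z' ⟨h, h'⟩ ⟨g, g'⟩
    refine ⟨fun i k l => ?_, fun i k => ?_⟩
    · rw [Pi.add_apply, δ_add]; exact dvd_add (h i k l) (g i k l)
    · simp only [Pi.add_apply]
      rw [add_sub_add_comm]; exact dvd_add (h' i k) (g' i k)
  zero_mem' := ⟨fun i k l => by simp [δ, Dv], fun i k => by simp [Dv]⟩
  smul_mem' := by
    rintro r z ⟨h, h'⟩
    refine ⟨fun i k l => ?_, fun i k => ?_⟩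
    · rw [Pi.smul_apply, δ_smul]; exact (h i k l).mul_left _
    · rw [Pi.smul_apply, Pi.smul_apply, Pi.smul_apply, Pi.smul_apply, ← smul_sub, Algebra.smul_def]
      exact (h' i k).mul_left _

/-- The module of formal sections. -/
noncomputable def Sys.formal (σ : Sys t f) : Submodule B (∀ n k, Ov (fn t f n k)) := σ.seqs.map (evn t f)

theorem eq_zero_of_dv {P : Ideal B} [P.IsPrime] [IsNoetherianRing B] (htP : t ∈ P) {g r : B} (hg : g ∉ P)
    (h : ∀ n, ∃ N, t ^ (n + 1) ∣ g ^ N * r) : ∃ c, c ∉ P ∧ c * r = 0 := by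
  haveI : IsNoetherianRing (Localization.AtPrime P) := IsLocalization.isNoetherianRing P.primeCompl _ inferInstance
  have h1 : algebraMap B (Localization.AtPrime P) r = 0 := by
    have hmem : algebraMap B (Localization.AtPrime P) r ∈ ⨅ n : ℕ, maximalIdeal (Localization.AtPrime P) ^ n := by
      refine Submodule.mem_iInf _ |>.2 fun n => ?_
      obtain ⟨N, c, hc⟩ := h n
      have h2 := congrArg (algebraMap B (Localization.AtPrime P)) hc
      rw [map_mul, map_mul, map_pow, map_pow] at h2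
      refine (Ideal.unit_mul_mem_iff_mem _ ((IsLocalization.map_units (M := P.primeCompl) (Localization.AtPrime P) ⟨g, hg⟩).pow N)).1 ?_
      rw [h2]
      exact Ideal.mul_mem_right _ _ (Ideal.pow_le_pow_right n.le_succ (Ideal.pow_mem_pow
        ((IsLocalization.AtPrime.to_map_mem_maximal_iff _ P t).2 htP) _))
    rwa [Ideal.iInf_pow_eq_bot_of_isLocalRing _ (maximalIdeal.isMaximal _).ne_top] at hmem
  obtain ⟨⟨c, hc⟩, e⟩ := (IsLocalization.map_eq_zero_iff P.primeCompl _ r).1 h1
  exact ⟨c, hc, e⟩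

set_option maxHeartbeats 1600000 in
/-- A cocycle on the hypersurface comes from a finite module generated by one element near the hypersurface. -/
theorem exists_algebraization [IsLocalRing B] [IsNoetherianRing B] [Fintype K] (ht : t ∈ maximalIdeal B)
    (hreg : IsSMulRegular B t) [IsAdicComplete (Ideal.span {t}) B] [IsLocalRing (B ⧸ Ideal.span {t ^ (0 + 1)})]
    (hf : IsCover (fn t f 0))
    (hd : (4 : ℕ∞) ≤ LocCoh.depth (B ⧸ Ideal.span {t ^ (0 + 1)}) (B ⧸ Ideal.span {t ^ (0 + 1)}))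
    {T : ∀ k l, Ov (fn t f 0 k * fn t f 0 l)} (hT : IsCocycle (fn t f 0) T) :
    ∃ (M : Type u) (_ : AddCommGroup M) (_ : Module B M) (_ : Module.Finite B M)
      (a : ∀ k, M →ₗ[B] Ov (fn t f 0 k)),
      (∀ x, IsSect (fn t f 0) T fun k => a k x) ∧
      ∀ k : K, ∃ (y : M) (s : B), IsUnit (a k y) ∧ (∀ x, ∃ r : B, s • x = r • y) ∧
        ∀ P : Ideal B, P.IsPrime → t ∈ P → f k ∉ P →
          s ∉ P ∧ ∀ r : B, r • y = 0 → ∃ c, c ∉ P ∧ c * r = 0 := by
  classical
  have hd3 : (3 : ℕ∞) ≤ LocCoh.depth (B ⧸ Ideal.span {t ^ (0 + 1)}) (B ⧸ Ideal.span {t ^ (0 + 1)}) :=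
    le_trans (by norm_num) hd
  obtain ⟨σ, hσ⟩ := exists_sys ht hreg hf hd hT
  obtain ⟨n₀, h₀⟩ := σ.exists_obs_stable hreg hf hd3
  have hev : ∀ (z : ℕ → ∀ k, Ov (f k)) n k, evn t f z n k = 0 ↔ Dv t (n + 1) (z n k) := fun z n k =>
    dv_iff n _ _ rfl _
  -- sections modulo the element
  have hdiv : ∀ z ∈ σ.seqs, (∀ k, Dv t 1 (z 0 k)) → ∃ w ∈ σ.seqs, evn t f z = t • evn t f w := by
    intro z hz h
    have h1 : ∀ i k, Dv t 1 (z (i + 1) k) := by
      intro i
      induction i with
      | zero =>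
        intro k
        have := dvd_add ((hz.2 0 k).mono le_rfl) (h k)
        rwa [sub_add_cancel] at this
      | succ i ih =>
        intro k
        have := dvd_add ((hz.2 (i + 1) k).mono (by omega : 1 ≤ i + 1 + 1)) (ih k)
        rwa [sub_add_cancel] at this
    choose w hw using h1
    refine ⟨w, ⟨fun i k l => ?_, fun i k => ?_⟩, funext fun n => funext fun k => sub_eq_zero.1 ?_⟩
    · obtain ⟨d, hd⟩ := hz.1 (i + 1) k l
      obtain ⟨b, hb⟩ := δ_congr k l (σ.succ i k l) (w i)
      refine Dv.cancel hreg (a := 1) ⟨d - b, ?_⟩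
      have e : δ (σ.S (i + 1)) (z (i + 1)) k l = algebraMap B _ t * δ (σ.S (i + 1)) (w i) k l := by
        simp only [δ, r₁, r₂, hw, pow_one, map_mul, res_algebraMap]; ring
      rw [pow_one]
      linear_combination hd - e - algebraMap B (Ov (f k * f l)) t * hb
    · refine Dv.cancel hreg (a := 1) ?_
      rw [pow_one, mul_sub, show algebraMap B (Ov (f k)) t * w (i + 1) k = z (i + 1 + 1) k by rw [hw, pow_one],
        show algebraMap B (Ov (f k)) t * w i k = z (i + 1) k by rw [hw, pow_one]]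
      exact (hz.2 (i + 1) k).mono (by omega)
    · rw [← map_smul, ← Pi.sub_apply, ← Pi.sub_apply, ← map_sub, hev]
      rw [Pi.sub_apply, Pi.sub_apply, Pi.smul_apply, Pi.smul_apply, Algebra.smul_def]
      rw [← pow_one (algebraMap B (Ov (f k)) t), ← hw, ← neg_sub, Dv, dvd_neg]
      exact hz.2 n k
  -- generators
  let M := σ.formal
  haveI := isNoetherian_sectMod (le_trans (by norm_num) hd) hf (σ.isCocycle 0)
  let R₀ : Submodule (B ⧸ Ideal.span {t ^ (0 + 1)}) (sectMod (fn t f 0) (σ.lev 0)) :=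
    { carrier := {e | ∃ z ∈ σ.seqs, evn t f z 0 = e.1}
      add_mem' := by
        rintro e e' ⟨z, hz, h⟩ ⟨z', hz', h'⟩
        exact ⟨z + z', add_mem hz hz', by rw [map_add, Pi.add_apply, h, h']; rfl⟩
      zero_mem' := ⟨0, zero_mem _, by rw [map_zero]; rfl⟩
      smul_mem' := by
        rintro r e ⟨z, hz, h⟩
        obtain ⟨r, rfl⟩ := Ideal.Quotient.mk_surjective r
        refine ⟨r • z, Submodule.smul_mem _ r hz, ?_⟩
        rw [map_smul, Pi.smul_apply, h, Submodule.coe_smul, ← Ideal.Quotient.algebraMap_eq, algebraMap_smul] }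
  obtain ⟨r₀, gen, hgen⟩ := Submodule.fg_iff_exists_fin_generating_family.1 (IsNoetherian.noetherian R₀)
  choose sz hsz hsz0 using fun j => (show gen j ∈ R₀ from hgen ▸ Submodule.subset_span ⟨j, rfl⟩)
  have hsect : ∀ z ∈ σ.seqs, IsSect (fn t f 0) (σ.lev 0) (evn t f z 0) := by
    intro z hz k l
    have h := (dv_iff 0 _ _ (map_mul (πn t 0) (f k) (f l)) _).2 (hz.1 0 k l)
    simp only [δ, r₁, r₂] at h
    rw [map_sub, RingHom.map_mul (mv (πn t 0) _ _ _), mv_res_eq (πn t 0) _ _ (dvd_refl (fn t f 0 l)) (dvd_mul_left _ _),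
      mv_res_eq (πn t 0) _ _ (dvd_refl (fn t f 0 k)) (dvd_mul_right _ _), sub_eq_zero] at h
    exact h
  let s : Fin r₀ → M := fun j => ⟨evn t f (sz j), Submodule.mem_map_of_mem (hsz j)⟩
  have hspan : ∀ x : M, ∃ c : Fin r₀ → B, x = ∑ j, c j • s j := by
    refine exists_span_of_complete (t := t) s (fun x => ?_) (fun x hx => ?_)
    · obtain ⟨z, hz, hzx⟩ := x.2
      have hmem : (⟨evn t f z 0, hsect z hz⟩ : sectMod (fn t f 0) (σ.lev 0)) ∈ R₀ := ⟨z, hz, rfl⟩
      rw [← hgen] at hmem
      obtain ⟨c, hc⟩ := (Submodule.mem_span_range_iff_exists_fun _).1 hmem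
      choose c' hc' using fun j => Ideal.Quotient.mk_surjective (c j)
      have h0 : ∀ k, Dv t 1 ((z - ∑ j, c' j • sz j) 0 k) := by
        intro k
        have hck := congrFun (congrArg Subtype.val hc) k
        simp only [Submodule.coe_sum, Finset.sum_apply, Submodule.coe_smul, Pi.smul_apply] at hck
        rw [← hev, map_sub, map_sum, Pi.sub_apply, Pi.sub_apply, sub_eq_zero, Finset.sum_apply, Finset.sum_apply, ← hck]
        refine Finset.sum_congr rfl fun j _ => ?_
        rw [map_smul, Pi.smul_apply, Pi.smul_apply, ← hc', hsz0, ← Ideal.Quotient.algebraMap_eq, algebraMap_smul]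
      obtain ⟨w, hw, hzw⟩ := hdiv _ (sub_mem hz (sum_mem fun j _ => Submodule.smul_mem _ _ (hsz j))) h0
      refine ⟨c', ⟨evn t f w, Submodule.mem_map_of_mem hw⟩, Subtype.ext ?_⟩
      simp only [map_sub, map_sum, map_smul] at hzw
      simp only [Submodule.coe_add, Submodule.coe_sum, Submodule.coe_smul, s]
      rw [← hzw, ← hzx]
      abel
    · refine Subtype.ext (funext fun n => funext fun k => ?_)
      obtain ⟨x', rfl⟩ := hx (n + 1)
      rw [Submodule.coe_smul, Pi.smul_apply, Pi.smul_apply, ← algebraMap_smul (B ⧸ Ideal.span {t ^ (n + 1)}),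
        Ideal.Quotient.algebraMap_eq, Ideal.Quotient.eq_zero_iff_mem.2 (Ideal.mem_span_singleton_self _), zero_smul]
      rfl
  let a : ∀ k, M →ₗ[B] Ov (fn t f 0 k) := fun k =>
    ((LinearMap.proj k).comp (LinearMap.proj 0 : (∀ n k, Ov (fn t f n k)) →ₗ[B] _)).comp M.subtype
  refine ⟨M, inferInstance, inferInstance, Module.Finite.of_fg_top ?_, a, fun x => ?_, fun k => ?_⟩
  · refine Submodule.fg_iff_exists_fin_generating_family.2 ⟨r₀, s, top_le_iff.1 fun x _ => ?_⟩
    obtain ⟨c, rfl⟩ := hspan x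
    exact sum_mem fun j _ => Submodule.smul_mem _ _ (Submodule.subset_span ⟨j, rfl⟩)
  · obtain ⟨z, hz, hzx⟩ := x.2
    rw [← hσ]
    simp only [a, LinearMap.comp_apply, LinearMap.proj_apply, Submodule.coe_subtype, ← hzx]
    exact hsect z hz
  -- a section which is a unit on the chosen chart
  haveI := isLocalRing_quot ht (n₀ + 1)
  obtain ⟨e, he, heu⟩ := exists_sect (σ.isCocycle (n₀ + 1)) k
  choose y₁ hy₁ using fun l => mv_surjective (πn t (n₀ + 1)) Ideal.Quotient.mk_surjective (f l) _ rfl (e l)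
  have hy₁s : σ.Sect (n₀ + 1) y₁ := fun i j => by
    rw [← dv_iff (n₀ + 1) _ _ (map_mul (πn t (n₀ + 1)) (f i) (f j))]
    simp only [δ, r₁, r₂]
    rw [map_sub, RingHom.map_mul (mv (πn t _) _ _ _),
      mv_res_eq (πn t _) _ _ (dvd_refl (fn t f (n₀ + 1) j)) (dvd_mul_left _ _),
      mv_res_eq (πn t _) _ _ (dvd_refl (fn t f (n₀ + 1) i)) (dvd_mul_right _ _), hy₁, hy₁, sub_eq_zero]
    exact he i j
  obtain ⟨z, hz1, hz2, hz0⟩ := σ.exists_compatible hreg h₀ hy₁s
  let y : M := ⟨evn t f z, Submodule.mem_map_of_mem (show z ∈ σ.seqs from ⟨hz1, hz2⟩)⟩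
  have hzu : ∀ n, ∃ v, Dv t (n + 1) (z n k * v - 1) := by
    have h1 : ∃ v, Dv t 1 (z 0 k * v - 1) := by
      obtain ⟨w, hw⟩ := heu.exists_right_inv
      obtain ⟨v, hv⟩ := mv_surjective (πn t (n₀ + 1)) Ideal.Quotient.mk_surjective (f k) _ rfl w
      refine ⟨v, ?_⟩
      have h2 : Dv t (n₀ + 1 + 1) (y₁ k * v - 1) := by
        rw [← dv_iff (n₀ + 1) _ _ rfl, map_sub, map_mul, map_one, hy₁, hv, hw, sub_self]
      obtain ⟨d, hd⟩ := h2.mono (show 1 ≤ _ by omega)
      obtain ⟨d', hd'⟩ := hz0 k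
      exact ⟨d + d' * v, by linear_combination hd + v * hd'⟩
    obtain ⟨v, hv⟩ := h1
    intro n
    have hn : Dv t 1 (z n k * v - 1) := by
      have : Dv t 1 (z n k - z 0 k) := by
        clear hv
        induction n with
        | zero => rw [sub_self]; exact dvd_zero _
        | succ n ih =>
          have := dvd_add ((hz2 n k).mono (by omega : 1 ≤ n + 1)) ih
          rwa [sub_add_sub_cancel] at this
      obtain ⟨d, hd⟩ := this
      obtain ⟨d', hd'⟩ := hv
      exact ⟨d * v + d', by linear_combination v * hd + hd'⟩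
    refine ⟨v * ∑ i ∈ Finset.range (n + 1), (1 - z n k * v) ^ i, ?_⟩
    obtain ⟨d, hd⟩ := hn
    have hg := mul_neg_geom_sum (1 - z n k * v) (n + 1)
    refine ⟨-(-d) ^ (n + 1), ?_⟩
    rw [show (1 : Ov (f k)) - z n k * v = algebraMap B _ t * (-d) by linear_combination -hd, mul_pow] at hg
    rw [show (1 : Ov (f k)) - z n k * v = algebraMap B _ t * (-d) by linear_combination -hd]
    linear_combination hg + (∑ i ∈ Finset.range (n + 1), (algebraMap B (Ov (f k)) t * -d) ^ i) * hd
  have hyu : IsUnit (a k y) := by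
    obtain ⟨v, hv⟩ := hzu 0
    have := (dv_iff 0 _ _ rfl _).2 hv
    rw [map_sub, map_mul, map_one, sub_eq_zero] at this
    exact IsUnit.of_mul_eq_one _ this
  -- everything is a multiple of it up to the element
  have hgen' : ∀ x : M, ∃ (N : ℕ) (r : B) (x' : M), f k ^ N • x = r • y + t • x' := by
    intro x
    obtain ⟨zx, hzx, hzxx⟩ := x.2
    obtain ⟨v, hv⟩ := hzu 0
    obtain ⟨b, N, hb⟩ := exists_rep (f k) (zx 0 k * v)
    let zz := f k ^ N • zx - b • z
    have hzz : zz ∈ σ.seqs := sub_mem (Submodule.smul_mem _ _ hzx) (Submodule.smul_mem _ _ ⟨hz1, hz2⟩)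
    have hk0 : Dv t 1 (zz 0 k) := by
      obtain ⟨d, hd⟩ := hv
      refine ⟨-algebraMap B _ (f k) ^ N * zx 0 k * d, ?_⟩
      simp only [zz, Pi.sub_apply, Pi.smul_apply]
      simp only [Algebra.smul_def, map_pow, ← hb]
      linear_combination -algebraMap B (Ov (f k)) (f k) ^ N * zx 0 k * hd
    choose Q hQ using fun l => exists_pow_mul_eq_zero_of_r₂ (f := fn t f 0) (k := k) (l := l)
      (x := evn t f zz 0 l) (by rw [hsect zz hzz k l, (hev zz 0 k).2 hk0, map_zero, zero_mul])
    obtain ⟨w, hw, hzw⟩ := hdiv (f k ^ (∑ l, Q l) • zz) (Submodule.smul_mem _ _ hzz) fun l => by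
      rw [← hev, map_smul, Pi.smul_apply, Pi.smul_apply, ← algebraMap_smul (B ⧸ Ideal.span {t ^ (0 + 1)}),
        Algebra.smul_def, Ideal.Quotient.algebraMap_eq, map_pow, map_pow]
      obtain ⟨r, hr⟩ := Nat.exists_eq_add_of_le (Finset.single_le_sum (fun _ _ => Nat.zero_le _) (Finset.mem_univ l) :
        Q l ≤ ∑ l, Q l)
      rw [hr, pow_add _ (Q l) r, mul_right_comm, hQ l, zero_mul]
    refine ⟨∑ l, Q l + N, f k ^ (∑ l, Q l) * b, ⟨evn t f w, Submodule.mem_map_of_mem hw⟩, Subtype.ext ?_⟩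
    simp only [zz, map_sub, map_smul, smul_sub, smul_smul, ← pow_add] at hzw
    simp only [Submodule.coe_smul, Submodule.coe_add, y, ← hzxx]
    rw [← hzw]
    abel
  choose N r x' hx' using fun j => hgen' (s j)
  choose C hC using fun j => hspan (x' j)
  obtain ⟨d, hdP, hdM⟩ := exists_det_smul (t := t) s (fun j => f k ^ N j) r C y fun j => by rw [hx' j, ← hC j]
  refine ⟨y, d, hyu, fun x => ?_, fun P hP htP hkP => ⟨hdP _ hP htP fun j h => hkP (hP.mem_of_pow_mem _ h),
    fun c hc => eq_zero_of_dv htP hkP fun n => ?_⟩⟩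
  · obtain ⟨c, rfl⟩ := hspan x
    exact hdM c
  · have h0 : evn t f (c • z) n k = 0 := by
      rw [map_smul]
      exact congrFun (congrFun (congrArg Subtype.val hc) n) k
    obtain ⟨v, d', hd'⟩ := hzu n
    obtain ⟨d, hd⟩ := (hev _ n k).1 h0
    simp only [Pi.smul_apply, Algebra.smul_def] at hd
    obtain ⟨e', Q, he'⟩ := exists_rep (f k) (d * v - algebraMap B _ c * d')
    obtain ⟨Q', hQ'⟩ := (algebraMap_eq_iff (f k) (f k ^ Q * c) (t ^ (n + 1) * e')).1 (by
      simp only [map_mul, map_pow, ← he']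
      linear_combination algebraMap B (Ov (f k)) (f k) ^ Q * v * hd -
        algebraMap B (Ov (f k)) (f k) ^ Q * algebraMap B (Ov (f k)) c * hd')
    exact ⟨Q' + Q, f k ^ Q' * e', by rw [pow_add, mul_assoc, hQ']; ring⟩

end Groth.Agent.SGA11
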