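import Groth.Agent.PicU24.Extend

/-!
# Global sections of a cocycle are finite, and chains of twisted classes are stationary
-/

set_option autoImplicit false
set_option linter.style.haveILetI false
universe u

open IsLocalRing

namespace Groth.Agent.SGA11

open PicU24

variable {A : Type u} [CommRing A] {K : Type u}

/-- The module of sections of a cocycle. -/
noncomputable def sectMod (f : K → A) (t : ∀ k l, Ov (f k * f l)) : Submodule A (∀ k, Ov (f k)) where
  carrier := {a | IsSect f t a}
  add_mem' := fun ha hb => isSect_add ha hb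
  zero_mem' := isSect_zero f t
  smul_mem' := fun c a ha => by
    have h := isSect_smul ha c
    simp only [← Algebra.smul_def] at h
    exact h

/-- A twisted additive cocycle. -/
def IsTwCo (f : K → A) (t : ∀ k l, Ov (f k * f l)) (c : ∀ k l, Ov (f k * f l)) : Prop :=
  ∀ k l m, res _ (f k * f l * f m) ⟨f l, by ring⟩ (c k m) =
    res _ (f k * f l * f m) (dvd_mul_right _ _) (c k l) * res _ (f k * f l * f m) ⟨f k, by ring⟩ (t l m) +
      res _ (f k * f l * f m) ⟨f k, by ring⟩ (c l m)

theorem exists_inv_cocycle {f : K → A} {t : ∀ k l, Ov (f k * f l)} (ht : IsCocycle f t) :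
    ∃ t', IsCocycle f t' ∧ ∀ k l, t k l * t' k l = 1 := by
  choose t' ht' using fun k l => (ht.unit k l).exists_right_inv
  refine ⟨t', ⟨fun k l => IsUnit.of_mul_eq_one (t k l) ((mul_comm _ _).trans (ht' k l)), fun k l m => ?_⟩, ht'⟩
  have h1 := congrArg (res _ (f k * f l * f m) (dvd_mul_right _ _)) (ht' k l)
  have h2 := congrArg (res _ (f k * f l * f m) ⟨f k, by ring⟩) (ht' l m)
  have h3 := congrArg (res _ (f k * f l * f m) ⟨f l, by ring⟩) (ht' k m)
  have h4 := ht.trans k l m
  simp only [map_mul, map_one] at h1 h2 h3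
  set a := res _ (f k * f l * f m) (dvd_mul_right _ _) (t k l)
  set a' := res _ (f k * f l * f m) (dvd_mul_right _ _) (t' k l)
  set b := res _ (f k * f l * f m) ⟨f k, by ring⟩ (t l m)
  set b' := res _ (f k * f l * f m) ⟨f k, by ring⟩ (t' l m)
  set c := res _ (f k * f l * f m) ⟨f l, by ring⟩ (t k m)
  set c' := res _ (f k * f l * f m) ⟨f l, by ring⟩ (t' k m)
  linear_combination -(a' * b') * h3 - a' * b' * c' * h4 + c' * b * b' * h1 + c' * h2

variable [IsLocalRing A] [IsNoetherianRing A] [Fintype K]

theorem isNoetherian_sectMod (hd : (2 : ℕ∞) ≤ LocCoh.depth A A) {f : K → A} (hf : IsCover f)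
    {t : ∀ k l, Ov (f k * f l)} (ht : IsCocycle f t) : IsNoetherian A (sectMod f t) := by
  classical
  have hd1 : (1 : ℕ∞) ≤ LocCoh.depth A A := le_trans (by norm_num) hd
  obtain ⟨t', ht', htt'⟩ := exists_inv_cocycle ht
  choose v hv hvu using fun k => exists_sect ht' k
  have hx : ∀ (s : sectMod f t) (j : K), ∃ x : A, ∀ k, algebraMap A (Ov (f k)) x = v j k * s.1 k := by
    intro s j
    refine exists_glue hd hf _ fun k l => ?_
    rw [map_mul, map_mul, hv j k l, s.2 k l]
    linear_combination r₁ f k l (v j k) * r₁ f k l (s.1 k) * htt' k l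
  choose x hx using hx
  let Φ : sectMod f t →ₗ[A] (K → A) :=
    { toFun := fun s j => x s j
      map_add' := fun s s' => funext fun j => eq_of_forall_algebraMap_eq hd1 hf fun k => by
        rw [Pi.add_apply, map_add, hx, hx, hx]
        exact mul_add _ _ _
      map_smul' := fun c s => funext fun j => eq_of_forall_algebraMap_eq hd1 hf fun k => by
        rw [Pi.smul_apply, RingHom.id_apply, smul_eq_mul, map_mul, hx, hx, Submodule.coe_smul, Pi.smul_apply,
          Algebra.smul_def]
        ring }
  refine isNoetherian_of_injective Φ fun s s' h => Subtype.ext (funext fun k => (hvu k).mul_right_injective ?_)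
  show v k k * s.1 k = v k k * s'.1 k
  rw [← hx, ← hx]
  exact congrArg _ (congrFun h k)

/-- A chain of submodules of twisted cocycles containing the coboundaries is stationary in depth three. -/
theorem exists_stable (hd : (3 : ℕ∞) ≤ LocCoh.depth A A) {f : K → A} (hf : IsCover f)
    {t : ∀ k l, Ov (f k * f l)} (ht : IsCocycle f t) (E : ℕ →o Submodule A (∀ k l, Ov (f k * f l)))
    (hZ : ∀ n, ∀ c ∈ E n, IsTwCo f t c)
    (hB : ∀ n (a : ∀ k, Ov (f k)), (fun k l => r₂ f k l (a l) - r₁ f k l (a k) * t k l) ∈ E n) :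
    ∃ n₀, ∀ n, E n ≤ E n₀ := by
  classical
  have hd2 : (2 : ℕ∞) ≤ LocCoh.depth A A := le_trans (by norm_num) hd
  obtain ⟨t', ht', htt'⟩ := exists_inv_cocycle ht
  choose u hu huu using fun k => exists_sect ht' k
  haveI := isNoetherian_sectMod hd2 hf ht'
  let Rel : (∀ k l, Ov (f k * f l)) → (K → K → sectMod f t') → Prop := fun c w => ∃ b : K → ∀ k, Ov (f k),
    (∀ i k l, r₂ f k l (u i l) * c k l = r₂ f k l (b i l) - r₁ f k l (b i k)) ∧
      ∀ i j k, (w i j).1 k = u j k * b i k - u i k * b j k
  let F : ℕ → Submodule A (K → K → sectMod f t') := fun n =>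
    { carrier := {w | ∃ c ∈ E n, Rel c w}
      add_mem' := by
        rintro w w' ⟨c, hc, b, hb, hw⟩ ⟨c', hc', b', hb', hw'⟩
        refine ⟨c + c', add_mem hc hc', b + b', fun i k l => ?_, fun i j k => ?_⟩
        · simp only [Pi.add_apply, map_add, mul_add]
          linear_combination hb i k l + hb' i k l
        · simp only [Pi.add_apply, Submodule.coe_add]
          linear_combination hw i j k + hw' i j k
      zero_mem' := ⟨0, zero_mem _, 0, fun i k l => by simp, fun i j k => by simp⟩
      smul_mem' := by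
        rintro r w ⟨c, hc, b, hb, hw⟩
        refine ⟨r • c, Submodule.smul_mem _ r hc, r • b, fun i k l => ?_, fun i j k => ?_⟩
        · simp only [Pi.smul_apply, Algebra.smul_def, map_mul, res_algebraMap]
          linear_combination algebraMap A (Ov (f k * f l)) r * hb i k l
        · simp only [Pi.smul_apply, Submodule.coe_smul, Algebra.smul_def]
          linear_combination algebraMap A (Ov (f k)) r * hw i j k }
  have hex : ∀ n, ∀ c ∈ E n, ∃ w, Rel c w := by
    intro n c hc
    have hb : ∀ i, ∃ b : ∀ k, Ov (f k), ∀ k l, r₂ f k l (u i l) * c k l = r₂ f k l (b l) - r₁ f k l (b k) := by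
      intro i
      refine exists_coboundary hd hf fun k l m => ?_
      have h1 := congrArg (res _ (f k * f l * f m) ⟨f k, by ring⟩) (hu i l m)
      have h2 := congrArg (res _ (f k * f l * f m) ⟨f k, by ring⟩) (htt' l m)
      have h3 := hZ n c hc k l m
      simp only [r₁, r₂, map_mul, map_one, res_res] at h1 h2 ⊢
      set U := res _ (f k * f l * f m) ⟨f k * f l, by ring⟩ (u i m)
      set V := res _ (f k * f l * f m) ⟨f k * f m, by ring⟩ (u i l)
      linear_combination -U * h3 - (res _ (f k * f l * f m) (dvd_mul_right _ _) (c k l)) *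
        ((res _ (f k * f l * f m) ⟨f k, by ring⟩ (t l m)) * h1 + V * h2)
    choose b hb using hb
    refine ⟨fun i j => ⟨fun k => u j k * b i k - u i k * b j k, fun k l => ?_⟩, b, hb, fun i j k => rfl⟩
    have h1 := hu i k l
    have h2 := hu j k l
    simp only [map_sub, map_mul]
    linear_combination (r₁ f k l (b i k)) * h2 - (r₁ f k l (b j k)) * h1 - r₂ f k l (u j l) * hb i k l +
      r₂ f k l (u i l) * hb j k l
  obtain ⟨n₀, hn₀⟩ := monotone_stabilizes_iff_noetherian.mpr (inferInstance : IsNoetherian A (K → K → sectMod f t'))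
    ⟨F, fun a b hab w ⟨c, hc, hr⟩ => ⟨c, E.monotone hab hc, hr⟩⟩
  refine ⟨n₀, fun n c hc => ?_⟩
  rcases le_total n n₀ with hle | hle
  · exact E.monotone hle hc
  obtain ⟨w, hw⟩ := hex n c hc
  have hwF : w ∈ F n := ⟨c, hc, hw⟩
  rw [show F n = F n₀ from (hn₀ n hle).symm] at hwF
  obtain ⟨c', hc', b', hb', hw'⟩ := hwF
  obtain ⟨b, hb, hwb⟩ := hw
  choose i hi using fun k => (huu k).exists_right_inv
  let a : ∀ k, Ov (f k) := fun k => (b k k - b' k k) * i k
  have ha : ∀ j k, b j k - b' j k = u j k * a k := by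
    intro j k
    have h0 := (hwb j k k).symm.trans (hw' j k k)
    simp only [a]
    linear_combination i k * h0 - (b j k - b' j k) * hi k
  have hd : c - c' = fun k l => r₂ f k l (a l) - r₁ f k l (a k) * t k l := by
    funext k l
    have h1 := hb l k l
    have h2 := hb' l k l
    have h3 := congrArg (r₂ f k l) (ha l l)
    have h4 := congrArg (r₁ f k l) (ha l k)
    have h5 := hu l k l
    have h6 := htt' k l
    simp only [map_sub, map_mul] at h3 h4
    refine ((huu l).map (r₂ f k l)).mul_right_injective ?_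
    simp only [Pi.sub_apply]
    linear_combination h1 - h2 + h3 - h4 + r₁ f k l (a k) * t k l * h5 +
      r₁ f k l (a k) * r₁ f k l (u l k) * h6
  have := hB n₀ a
  rw [← hd] at this
  exact (Submodule.sub_mem_iff_left _ hc').1 this

end Groth.Agent.SGA11
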