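import Groth.Agent.InvX.Pullback
import Groth.Agent.InvUfdLib.Local
import Groth.Agent.DivX.MeroMod

/-!
# Modules with frames having the same transition functions are isomorphic
-/

set_option autoImplicit false
set_option backward.isDefEq.respectTransparency false
set_option backward.isDefEq.respectTransparency.types false
universe u

open CategoryTheory AlgebraicGeometry TopologicalSpace Opposite
open Groth.Agent.AModX Groth.Agent.InvX

namespace Groth.Agent.SGA11

theorem nonempty_iso_of_transition {X : Scheme.{u}} {M N : X.Modules} {ι : Type u} (U : ι → X.Opens)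
    (hU : ∀ x, ∃ i, x ∈ U i) (e : ∀ i, Γ(M, U i)) (he : ∀ i, IsFrame (e i)) (e' : ∀ i, Γ(N, U i))
    (he' : ∀ i, IsFrame (e' i)) (g : ∀ i j, Γ(X, U i ⊓ U j))
    (hM : ∀ i j, AModX.res M (inf_le_left : U i ⊓ U j ≤ U i) (e i) = g i j • AModX.res M inf_le_right (e j))
    (hN : ∀ i j, AModX.res N (inf_le_left : U i ⊓ U j ≤ U i) (e' i) = g i j • AModX.res N inf_le_right (e' j)) :
    Nonempty (M ≅ N) := by
  classical
  let Rel : ∀ V : X.Opens, Γ(M, V) → Γ(N, V) → Prop := fun V x y => ∀ i (r : Γ(X, V ⊓ U i)),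
    AModX.res M inf_le_left x = r • AModX.res M inf_le_right (e i) →
      AModX.res N inf_le_left y = r • AModX.res N inf_le_right (e' i)
  have huniq : ∀ V x y y', Rel V x y → Rel V x y' → y = y' := fun V x y y' hy hy' =>
    eq_of_locally y y' fun p hp => by
      obtain ⟨i, hi⟩ := hU p
      obtain ⟨r, hr⟩ := (he i).exists_coord (inf_le_right : V ⊓ U i ≤ U i) (AModX.res M inf_le_left x)
      exact ⟨V ⊓ U i, inf_le_left, ⟨hp, hi⟩, (hy i r hr).trans (hy' i r hr).symm⟩
  have hex : ∀ V x, ∃ y, Rel V x y := by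
    intro V x
    choose r hr using fun i => (he i).exists_coord (inf_le_right : V ⊓ U i ≤ U i) (AModX.res M inf_le_left x)
    let sf : ∀ i, Γ(N, V ⊓ U i) := fun i => r i • AModX.res N inf_le_right (e' i)
    obtain ⟨y, hy, -⟩ := existsUnique_glue (M := N) (fun i => V ⊓ U i) (fun _ => inf_le_left)
      (fun p hp => (hU p).imp fun i hi => ⟨hp, hi⟩) sf fun i j => by
      let W := V ⊓ U i ⊓ (V ⊓ U j)
      have hW : W ≤ U i ⊓ U j := inf_le_inf inf_le_right inf_le_right
      have h1 := congrArg (AModX.res M (inf_le_left : W ≤ V ⊓ U i)) (hr i)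
      have h2 := congrArg (AModX.res M (inf_le_right : W ≤ V ⊓ U j)) (hr j)
      have h3 := congrArg (AModX.res M hW) (hM i j)
      have h4 := congrArg (AModX.res N hW) (hN i j)
      simp only [res_smul, AModX.res_res] at h1 h2 h3 h4
      simp only [sf, res_smul, AModX.res_res]
      rw [h4, smul_smul]
      congr 1
      refine (he j).coord_unique ((inf_le_right : W ≤ V ⊓ U j).trans inf_le_right) ?_
      rw [mul_smul, ← h3, ← h1, ← h2]
    refine ⟨y, fun i r' hr' => ?_⟩
    rw [hy i, (he i).coord_unique (inf_le_right : V ⊓ U i ≤ U i) (hr'.symm.trans (hr i))]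
  have hadd : ∀ V x x' y y', Rel V x y → Rel V x' y' → Rel V (x + x') (y + y') := by
    intro V x x' y y' h h' i r hr
    obtain ⟨a, ha⟩ := (he i).exists_coord (inf_le_right : V ⊓ U i ≤ U i) (AModX.res M inf_le_left x)
    obtain ⟨b, hb⟩ := (he i).exists_coord (inf_le_right : V ⊓ U i ≤ U i) (AModX.res M inf_le_left x')
    rw [map_add, ha, hb, ← add_smul] at hr
    rw [map_add, h i a ha, h' i b hb, ← add_smul, (he i).coord_unique (inf_le_right : V ⊓ U i ≤ U i) hr]
  have hsmul : ∀ V (c : Γ(X, V)) x y, Rel V x y → Rel V (c • x) (c • y) := by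
    intro V c x y h i r hr
    obtain ⟨a, ha⟩ := (he i).exists_coord (inf_le_right : V ⊓ U i ≤ U i) (AModX.res M inf_le_left x)
    rw [res_smul, ha, smul_smul] at hr
    rw [res_smul, h i a ha, smul_smul, (he i).coord_unique (inf_le_right : V ⊓ U i ≤ U i) hr]
  have hres : ∀ V W (hle : W ≤ V) x y, Rel V x y → Rel W (AModX.res M hle x) (AModX.res N hle y) := by
    intro V W hle x y h i r hr
    obtain ⟨a, ha⟩ := (he i).exists_coord (inf_le_right : V ⊓ U i ≤ U i) (AModX.res M inf_le_left x)
    have hWV : W ⊓ U i ≤ V ⊓ U i := inf_le_inf hle le_rfl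
    have h1 := congrArg (AModX.res M hWV) ha
    have h2 := congrArg (AModX.res N hWV) (h i a ha)
    simp only [res_smul, AModX.res_res] at h1 h2 hr ⊢
    rw [h2, (he i).coord_unique (inf_le_right : W ⊓ U i ≤ U i) (h1.symm.trans hr)]
  let φ : M ⟶ N :=
    { val := PresheafOfModules.homMk
        { app := fun V => AddCommGrpCat.ofHom (AddMonoidHom.mk' (fun x => (hex V.unop x).choose) fun x x' =>
            huniq _ _ _ _ (hex _ _).choose_spec (hadd _ _ _ _ _ (hex _ x).choose_spec (hex _ x').choose_spec))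
          naturality := fun V W i => by
            ext x
            exact huniq _ _ _ _ (hex W.unop (AModX.res M i.unop.le x)).choose_spec
              (hres _ _ i.unop.le _ _ (hex V.unop x).choose_spec) }
        fun V r x => huniq _ _ _ _ (hex _ _).choose_spec (hsmul _ r _ _ (hex _ x).choose_spec) }
  have hφ : ∀ i, φ.app (U i) (e i) = e' i := by
    intro i
    refine huniq (U i) (e i) _ _ (hex (U i) (e i)).choose_spec fun j r hr => ?_
    rw [hN i j, (he j).coord_unique (inf_le_right : U i ⊓ U j ≤ U j) ((hM i j).symm.trans hr)]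
  haveI : IsIso φ := DivX.isIso_of_frames φ fun x => by
    obtain ⟨i, hi⟩ := hU x
    exact ⟨U i, hi, e i, he i, (hφ i).symm ▸ he' i⟩
  exact ⟨asIso φ⟩

end Groth.Agent.SGA11
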