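import Groth.Agent.SGA11.Gen

/-!
# The dual is free where the punctured spectrum has trivial cocycles
-/

set_option autoImplicit false
set_option linter.style.haveILetI false
universe u

open IsLocalRing

namespace Groth.Agent.SGA11

open PicU24

variable {B : Type u} [CommRing B] [IsNoetherianRing B] {M : Type u} [AddCommGroup M] [Module B M]

/-- Generators on a finite cover of the punctured spectrum of a localization. -/
theorem exists_cover_gen {L : Type u} [CommRing L] [IsLocalRing L] [Algebra B L] (W : Submonoid B) [IsLocalization W L]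
    (hgood : ∀ Q : PrimeSpectrum L, Q ≠ closedPoint L → Good M (Q.asIdeal.comap (algebraMap B L))) :
    ∃ (K : Type u) (_ : Fintype K) (h : K → B) (d : K → M →ₗ[B] B),
      (∀ k, Gen (h k) (d k)) ∧ IsCover (fun k => algebraMap B L (h k)) := by
  classical
  let S : Set B := {h | algebraMap B L h ∈ maximalIdeal L ∧ ∃ d : M →ₗ[B] B, Gen h d}
  obtain ⟨T, hTS, hspan⟩ := (Submodule.fg_span_iff_fg_span_finset_subset S).1
    (IsNoetherian.noetherian (Submodule.span B S))
  choose! d hd using fun h (hh : h ∈ S) => hh.2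
  refine ⟨ULift.{u} ↥T, inferInstance, fun k => k.down.1, fun k => d k.down.1, fun k => hd _ (hTS k.down.2),
    fun k => (hTS k.down.2).1, fun Q hQ => ?_⟩
  by_contra hcon
  simp only [not_exists, not_not] at hcon
  obtain ⟨h, hh, d₀, hd₀⟩ := hgood Q hQ
  have hne : ¬ (maximalIdeal L).comap (algebraMap B L) ≤ Q.asIdeal.comap (algebraMap B L) := fun hle => hQ <| by
    refine PrimeSpectrum.ext (le_antisymm (le_maximalIdeal Q.isPrime.ne_top) ?_)
    show maximalIdeal L ≤ Q.asIdeal
    rw [← IsLocalization.map_comap W L (maximalIdeal L)]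
    exact Ideal.map_le_iff_le_comap.2 hle
  obtain ⟨a, ha, haQ⟩ := SetLike.not_le_iff_exists.1 hne
  have hmem : h * a ∈ S := ⟨by rw [map_mul]; exact Ideal.mul_mem_left _ _ ha, d₀, hd₀.mul_right a⟩
  have hTQ : Submodule.span B (T : Set B) ≤ Q.asIdeal.comap (algebraMap B L) :=
    Submodule.span_le.2 fun x hx => hcon ⟨⟨x, hx⟩⟩
  have := hTQ (hspan ▸ Submodule.subset_span hmem)
  exact ((Q.isPrime.comap (algebraMap B L)).mem_or_mem this).elim hh haQ

variable [Module.Finite B M]

/-- The dual is free near a prime whose local ring has trivial cocycles, when it is free at smaller primes. -/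
theorem good_of_triv (P : Ideal B) [P.IsPrime]
    (hd : (2 : ℕ∞) ≤ LocCoh.depth (Localization.AtPrime P) (Localization.AtPrime P))
    (htriv : ∀ (K : Type u) [Fintype K] (f : K → Localization.AtPrime P), IsCover f →
      ∀ t, IsCocycle f t → Triv f t)
    (hsmall : ∀ Q : Ideal B, Q.IsPrime → Q < P → Good M Q) : Good M P := by
  classical
  haveI : IsNoetherianRing (Localization.AtPrime P) := IsLocalization.isNoetherianRing P.primeCompl _ inferInstance
  have hd1 : (1 : ℕ∞) ≤ LocCoh.depth (Localization.AtPrime P) (Localization.AtPrime P) := le_trans (by norm_num) hd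
  obtain ⟨K, _, h, d, hgen, hf⟩ := exists_cover_gen (M := M) (L := Localization.AtPrime P) P.primeCompl fun Q hQ => by
    refine hsmall _ (Q.isPrime.comap _) (lt_of_le_of_ne ?_ fun e => hQ (PrimeSpectrum.ext ?_))
    · refine (Ideal.comap_mono (le_maximalIdeal Q.isPrime.ne_top)).trans (le_of_eq ?_)
      exact IsLocalization.AtPrime.under_maximalIdeal (Localization.AtPrime P) P
    · exact (IsLocalization.map_comap P.primeCompl (Localization.AtPrime P) Q.asIdeal).symm.trans
        ((congrArg (Ideal.map (algebraMap B (Localization.AtPrime P))) e).trans Localization.AtPrime.map_eq_maximalIdeal)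
  let f : K → Localization.AtPrime P := fun k => algebraMap B _ (h k)
  obtain ⟨T, hT, hTd⟩ := exists_gen_cocycle P.primeCompl (f := f) (fun _ => rfl) hgen
  obtain ⟨a, ha, hau⟩ := htriv K f hf T hT
  let j : B →+* Localization.AtPrime P := algebraMap B _
  have hglue : ∀ x, ∃ z, ∀ k, algebraMap (Localization.AtPrime P) (Ov (f k)) z =
      a k * algebraMap _ _ (j (d k x)) := by
    intro x
    refine exists_glue hd hf _ fun k l => ?_
    show res (f l) (f k * f l) _ (a l * algebraMap _ _ (j (d l x))) =
      res (f k) (f k * f l) _ (a k * algebraMap _ _ (j (d k x)))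
    have h1 := ha k l
    simp only [r₁, r₂] at h1
    have h2 : algebraMap _ (Ov (f k * f l)) (j (d k x)) = T k l * algebraMap _ _ (j (d l x)) := hTd k l x
    rw [RingHom.map_mul, RingHom.map_mul, res_algebraMap, res_algebraMap, h1, h2]
    ring
  choose φ hφ using hglue
  let Φ : M →ₗ[B] Localization.AtPrime P :=
    { toFun := φ
      map_add' := fun x x' => eq_of_forall_algebraMap_eq hd1 hf fun k => by
        rw [map_add, hφ, hφ, hφ, map_add, map_add, map_add, mul_add]
      map_smul' := fun c x => eq_of_forall_algebraMap_eq hd1 hf fun k => by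
        rw [RingHom.id_apply, Algebra.smul_def, map_mul, hφ, hφ, map_smul, smul_eq_mul, map_mul, map_mul]
        ring }
  haveI : Module.FinitePresentation B M := Module.finitePresentation_of_finite B M
  obtain ⟨φ', ⟨s, hs⟩, hφ'⟩ := Module.FinitePresentation.exists_lift_of_isLocalizedModule P.primeCompl
    (Algebra.linearMap B (Localization.AtPrime P)) Φ
  have hφ'x : ∀ x, j (φ' x) = j s * φ x := fun x => by
    have := congrArg (fun ψ : M →ₗ[B] Localization.AtPrime P => ψ x) hφ'
    simp only [LinearMap.comp_apply, Algebra.linearMap_apply, LinearMap.smul_apply, Submonoid.smul_def,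
      Algebra.smul_def] at this
    exact this
  have hvals : ∀ (k : K) (b : Ov (f k)),
      (∀ x, b * algebraMap _ (Ov (f k)) (j (d k x)) = 0) → b = 0 :=
    fun k b hb => eq_zero_of_values P.primeCompl (hgen k) dvd_rfl rfl b hb
  -- coordinates
  have hcoord : ∀ ψ : M →ₗ[B] B, ∃ c g : B, g ∉ P ∧ g • ψ = c • φ' := by
    intro ψ
    have hck : ∀ k, ∃ c : Ov (f k), ∀ x, algebraMap _ _ (j (ψ x)) = c * (a k * algebraMap _ _ (j (d k x))) := by
      intro k
      obtain ⟨c, n, e⟩ := (hgen k).gen ψ
      obtain ⟨u, hu⟩ := unit_pow (f k) n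
      obtain ⟨w, hw⟩ := (hau k).exists_right_inv
      refine ⟨(u⁻¹ : (Ov (f k))ˣ) * algebraMap _ _ (j c) * w, fun x => ?_⟩
      have h1 := congrArg (fun q : M →ₗ[B] B => algebraMap _ (Ov (f k)) (j (q x))) e
      simp only [LinearMap.smul_apply, smul_eq_mul, map_mul, map_pow] at h1
      change algebraMap _ (Ov (f k)) (f k) ^ n * _ = _ at h1
      rw [← hu] at h1
      linear_combination ((u⁻¹ : (Ov (f k))ˣ) : Ov (f k)) * h1 -
        algebraMap _ (Ov (f k)) (j (ψ x)) * Units.inv_mul u -
        ((u⁻¹ : (Ov (f k))ˣ) : Ov (f k)) * algebraMap _ _ (j c) * algebraMap _ (Ov (f k)) (j (d k x)) * hw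
    choose c hc using hck
    obtain ⟨z, hz⟩ := exists_glue hd hf c fun k l => by
      have hl : IsUnit (r₂ f k l (a l)) := (hau l).map _
      refine sub_eq_zero.1 (hl.mul_left_eq_zero.1 ?_)
      refine eq_zero_of_values P.primeCompl (hgen l) (γ := h k * h l) (dvd_mul_left _ _) (map_mul _ _ _).symm _
        fun x => ?_
      have h1 := congrArg (r₁ f k l) (hc k x)
      have h2 := congrArg (r₂ f k l) (hc l x)
      have h3 := ha k l
      simp only [r₁, r₂, map_mul, res_algebraMap] at h1 h2 h3 ⊢
      linear_combination h1 - h2 + res (f k) (f k * f l) (dvd_mul_right _ _) (c k) *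
        res (f k) (f k * f l) (dvd_mul_right _ _) (a k) * hTd k l x -
        res (f k) (f k * f l) (dvd_mul_right _ _) (c k) * algebraMap _ (Ov (f k * f l)) (j (d l x)) * h3
    obtain ⟨⟨c₀, σ⟩, hσ⟩ := IsLocalization.surj P.primeCompl z
    have hx : ∀ x, ∃ σ' : P.primeCompl, (σ' : B) * ((s : B) * σ * ψ x - c₀ * φ' x) = 0 := fun x => by
      refine (IsLocalization.map_eq_zero_iff P.primeCompl (Localization.AtPrime P) _).1 ?_
      have h1 : j (ψ x) = z * φ x := eq_of_forall_algebraMap_eq hd1 hf fun k => by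
        rw [map_mul, hz, hφ, hc k x]
      simp only [map_sub, map_mul]
      change j s * algebraMap B _ σ * j (ψ x) - algebraMap B _ c₀ * j (φ' x) = 0
      rw [hφ'x, h1, ← hσ]
      ring
    choose σ' hσ' using hx
    obtain ⟨r, gen, hgenM⟩ := Submodule.fg_iff_exists_fin_generating_family.1 (Module.Finite.fg_top (R := B) (M := M))
    let G := ∏ i, (σ' (gen i) : B)
    refine ⟨G * c₀, G * (s * σ), fun hG => ?_, LinearMap.ext fun x => ?_⟩
    · exact (P.primeCompl.mul_mem (P.primeCompl.prod_mem fun i _ => (σ' (gen i)).2)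
        (P.primeCompl.mul_mem hs σ.2)) hG
    · have hx : x ∈ Submodule.span B (Set.range gen) := hgenM.symm ▸ Submodule.mem_top
      induction hx using Submodule.span_induction with
      | mem y hy =>
        obtain ⟨i, rfl⟩ := hy
        obtain ⟨e, he⟩ := Finset.dvd_prod_of_mem (fun i => (σ' (gen i) : B)) (Finset.mem_univ i)
        simp only [LinearMap.smul_apply, smul_eq_mul, G]
        rw [he]
        linear_combination e * hσ' (gen i)
      | zero => simp
      | add u v _ _ hu hv => rw [map_add, map_add, hu, hv]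
      | smul c u _ hu => rw [map_smul, map_smul, hu]
  obtain ⟨r, ψ, hψ⟩ := Submodule.fg_iff_exists_fin_generating_family.1
    (Module.Finite.fg_top (R := B) (M := M →ₗ[B] B))
  choose c g hg hcg using fun i => hcoord (ψ i)
  obtain ⟨J, hJ⟩ := IsNoetherian.noetherian (LinearMap.ker (LinearMap.toSpanSingleton B (M →ₗ[B] B) φ') : Ideal B)
  have hkill : ∀ b : B, b • φ' = 0 → ∃ q ∉ P, q * b = 0 := by
    intro b hb
    obtain ⟨q, hq⟩ := (IsLocalization.map_eq_zero_iff P.primeCompl (Localization.AtPrime P) b).1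
      (eq_of_forall_algebraMap_eq hd1 hf fun k => by
        rw [map_zero]
        refine (hau k).mul_left_eq_zero.1 (hvals k _ fun x => ?_)
        have h1 : j b * j (φ' x) = 0 := by
          rw [← map_mul]
          exact (congrArg j (congrArg (fun q : M →ₗ[B] B => q x) hb)).trans (map_zero j)
        rw [hφ'x] at h1
        have hsu : IsUnit (algebraMap _ (Ov (f k)) (j s)) :=
          ((IsLocalization.map_units (Localization.AtPrime P) (⟨s, hs⟩ : P.primeCompl))).map _
        refine hsu.mul_right_eq_zero.1 ?_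
        have h2 := congrArg (algebraMap _ (Ov (f k))) h1
        rw [map_mul, map_mul, hφ, map_zero] at h2
        linear_combination h2)
    exact ⟨q, q.2, hq⟩
  choose! q hqP hq using fun b (hb : b ∈ J) =>
    hkill b (LinearMap.mem_ker.1 ((hJ ▸ Submodule.subset_span hb) :
      b ∈ LinearMap.ker (LinearMap.toSpanSingleton B (M →ₗ[B] B) φ')))
  let H := (∏ i, g i) * ∏ b ∈ J, q b
  refine ⟨H, fun hH => ?_, φ', ⟨fun χ => ?_, fun b hb => ⟨1, ?_⟩⟩⟩
  · rcases ‹P.IsPrime›.mem_or_mem hH with h' | h'
    · obtain ⟨i, -, hi⟩ := Ideal.IsPrime.prod_mem_iff.1 h'; exact hg i hi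
    · obtain ⟨i, hi, hi'⟩ := Ideal.IsPrime.prod_mem_iff.1 h'; exact hqP i hi hi'
  · have hχ : χ ∈ Submodule.span B (Set.range ψ) := hψ.symm ▸ Submodule.mem_top
    suffices ∃ c : B, H • χ = c • φ' by
      obtain ⟨c, hc⟩ := this
      exact ⟨c, 1, by rw [pow_one, hc]⟩
    induction hχ using Submodule.span_induction with
    | mem y hy =>
      obtain ⟨i, rfl⟩ := hy
      obtain ⟨e, he⟩ := Finset.dvd_prod_of_mem g (Finset.mem_univ i)
      refine ⟨(e * ∏ b ∈ J, q b) * c i, ?_⟩
      rw [mul_smul (e * ∏ b ∈ J, q b) (c i) φ', ← hcg i, ← mul_smul]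
      congr 1
      simp only [H]; rw [he]; ring
    | zero => exact ⟨0, by simp⟩
    | add u v _ _ hu hv =>
      obtain ⟨cu, hu⟩ := hu; obtain ⟨cv, hv⟩ := hv
      exact ⟨cu + cv, by rw [smul_add, hu, hv, add_smul]⟩
    | smul c' u _ hu =>
      obtain ⟨cu, hu⟩ := hu
      exact ⟨c' * cu, by rw [smul_comm, hu, smul_smul]⟩
  · have hbJ : b ∈ Submodule.span B (J : Set B) := by rw [hJ]; exact LinearMap.mem_ker.2 hb
    rw [pow_one]
    clear hb
    induction hbJ using Submodule.span_induction with
    | mem y hy =>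
      obtain ⟨e, he⟩ := Finset.dvd_prod_of_mem q hy
      simp only [H]
      rw [he]; linear_combination (∏ i, g i) * e * hq y hy
    | zero => simp
    | add u v _ _ hu hv => rw [mul_add, hu, hv, add_zero]
    | smul c' u _ hu => rw [smul_eq_mul]; linear_combination c' * hu

end Groth.Agent.SGA11
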