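import Groth.Agent.PicU24.Extend

/-!
# Dual modules free of rank one away from the closed point
-/

set_option autoImplicit false
set_option linter.style.haveILetI false
universe u

open IsLocalRing

namespace Groth.Agent.SGA11

open PicU24

variable {B : Type u} [CommRing B] {M : Type u} [AddCommGroup M] [Module B M]

/-- The dual is freely generated by one form where `h` is invertible. -/
structure Gen (h : B) (d : M →ₗ[B] B) : Prop where
  gen : ∀ φ : M →ₗ[B] B, ∃ (c : B) (n : ℕ), h ^ n • φ = c • d
  ann : ∀ c : B, c • d = 0 → ∃ n : ℕ, h ^ n * c = 0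

/-- The dual is freely generated by one form near a prime. -/
def Good (M : Type u) [AddCommGroup M] [Module B M] (P : Ideal B) : Prop :=
  ∃ h ∉ P, ∃ d : M →ₗ[B] B, Gen h d

theorem Gen.mul_right {h : B} {d : M →ₗ[B] B} (hd : Gen h d) (a : B) : Gen (h * a) d where
  gen φ := by
    obtain ⟨c, n, e⟩ := hd.gen φ
    exact ⟨a ^ n * c, n, by rw [mul_pow, mul_comm (h ^ n), mul_smul, e, smul_smul]⟩
  ann c hc := by
    obtain ⟨n, e⟩ := hd.ann c hc
    exact ⟨n, by rw [mul_pow, mul_right_comm, e, zero_mul]⟩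

theorem Good.mono {P Q : Ideal B} (h : Q ≤ P) : Good M P → Good M Q :=
  fun ⟨a, ha, hd⟩ => ⟨a, fun e => ha (h e), hd⟩

/-- A prime where the module is cyclic with negligible annihilator is good. -/
theorem good_of_cyclic [IsNoetherianRing B] {P : Ideal B} [P.IsPrime] {y : M} {s : B} (hs : s ∉ P)
    (hgen : ∀ x : M, ∃ r : B, s • x = r • y) (hann : ∀ r : B, r • y = 0 → ∃ c, c ∉ P ∧ c * r = 0) :
    ∃ h ∉ P, ∃ d : M →ₗ[B] B, Gen h d ∧ d y = h := by
  classical
  obtain ⟨J, hJ⟩ := IsNoetherian.noetherian (LinearMap.ker (LinearMap.toSpanSingleton B M y) : Ideal B)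
  have hJy : ∀ j ∈ J, (j : B) • y = 0 := fun j hj =>
    LinearMap.mem_ker.1 ((hJ ▸ Submodule.subset_span hj) : j ∈ LinearMap.ker (LinearMap.toSpanSingleton B M y))
  choose! c hcP hc using fun j (hj : j ∈ J) => hann j (hJy j hj)
  let C := ∏ j ∈ J, c j
  have hC : C ∉ P := fun h => by
    obtain ⟨j, hj, hjP⟩ := (Ideal.IsPrime.prod_mem_iff).1 h
    exact hcP j hj hjP
  have hkill : ∀ r : B, r • y = 0 → C * r = 0 := by
    intro r hr
    have h1 : r ∈ Submodule.span B (J : Set B) := by rw [hJ]; exact LinearMap.mem_ker.2 hr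
    induction h1 using Submodule.span_induction with
    | mem j hj =>
      obtain ⟨e, he⟩ := Finset.dvd_prod_of_mem c hj
      simp only [C]
      rw [he]; linear_combination e * hc j hj
    | zero => simp
    | add a b ha hb iha ihb =>
      have h0 : ∀ z ∈ Submodule.span B (J : Set B), z • y = 0 := fun z hz => LinearMap.mem_ker.1 (hJ ▸ hz)
      rw [mul_add, iha (h0 a ha), ihb (h0 b hb), add_zero]
    | smul a b hb ihb =>
      have h0 : b • y = 0 := LinearMap.mem_ker.1 (hJ ▸ hb)
      rw [smul_eq_mul]; linear_combination a * ihb h0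
  choose r hr using hgen
  have huniq : ∀ x a, s • x = a • y → C * r x = C * a := fun x a ha => by
    have := hkill (r x - a) (by rw [sub_smul, ← hr, ha, sub_self])
    linear_combination this
  let d : M →ₗ[B] B :=
    { toFun := fun x => C * r x
      map_add' := fun x x' => by
        rw [← mul_add]; exact huniq _ _ (by rw [smul_add, hr, hr, add_smul])
      map_smul' := fun a x => by
        rw [RingHom.id_apply, smul_eq_mul, mul_left_comm]; exact huniq _ _ (by rw [smul_comm, hr, smul_smul]) }
  refine ⟨C * s, fun h => (‹P.IsPrime›.mem_or_mem h).elim hC hs, d,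
    ⟨fun φ => ⟨φ y, 1, LinearMap.ext fun x => ?_⟩, fun a ha => ⟨1, ?_⟩⟩, ?_⟩
  · have := congrArg φ (hr x)
    simp only [map_smul, smul_eq_mul] at this
    simp only [d, LinearMap.smul_apply, smul_eq_mul, pow_one, LinearMap.coe_mk, AddHom.coe_mk]
    linear_combination C * this
  · have h1 : a * (C * r y) = 0 := congrArg (fun φ : M →ₗ[B] B => φ y) ha
    rw [pow_one]
    linear_combination h1 - a * huniq y s rfl
  · exact huniq y s rfl

variable {L : Type u} [CommRing L] [Algebra B L] (W : Submonoid B) [IsLocalization W L] [Module.Finite B M]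

include W in
/-- Where the generator lives an element killing all its values vanishes. -/
theorem eq_zero_of_values {h : B} {d : M →ₗ[B] B} (hd : Gen h d) {γ : B} (hγ : h ∣ γ) {g : L}
    (hg : g = algebraMap B L γ) (a : Ov g)
    (ha : ∀ x, a * algebraMap L (Ov g) (algebraMap B L (d x)) = 0) : a = 0 := by
  classical
  obtain ⟨α, m, hα⟩ := exists_rep g a
  obtain ⟨⟨b, σ⟩, hb⟩ := IsLocalization.surj W α
  have hkey : ∀ x, ∃ σ' ∈ W, ∃ n, σ' * γ ^ n * (b * d x) = 0 := by
    intro x
    have h1 : algebraMap L (Ov g) (algebraMap B L (b * d x)) = algebraMap L (Ov g) 0 := by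
      rw [map_zero, map_mul, map_mul, ← hb, map_mul, ← hα]
      linear_combination (algebraMap L (Ov g) g ^ m * algebraMap L (Ov g) (algebraMap B L σ)) * ha x
    obtain ⟨n, hn⟩ := (algebraMap_eq_iff _ _ _).1 h1
    rw [mul_zero, hg, ← map_pow, ← map_mul] at hn
    obtain ⟨σ', hσ'⟩ := (IsLocalization.map_eq_zero_iff W L _).1 hn
    exact ⟨σ', σ'.2, n, by linear_combination hσ'⟩
  choose σ' hσ' n hn using hkey
  obtain ⟨r, gen, hgen⟩ := Submodule.fg_iff_exists_fin_generating_family.1 (Module.Finite.fg_top (R := B) (M := M))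
  let N := ∑ i, n (gen i)
  let Sg := ∏ i, σ' (gen i)
  have hall : (Sg * γ ^ N * b) • d = 0 := by
    refine LinearMap.ext fun x => ?_
    have hx : x ∈ Submodule.span B (Set.range gen) := hgen.symm ▸ Submodule.mem_top
    induction hx using Submodule.span_induction with
    | mem z hz =>
      obtain ⟨i, rfl⟩ := hz
      obtain ⟨e, he⟩ := Finset.dvd_prod_of_mem (fun i => σ' (gen i)) (Finset.mem_univ i)
      obtain ⟨j, hj⟩ := Nat.exists_eq_add_of_le (Finset.single_le_sum (f := fun i => n (gen i))
        (fun _ _ => Nat.zero_le _) (Finset.mem_univ i))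
      simp only [LinearMap.smul_apply, LinearMap.zero_apply, smul_eq_mul, Sg, N]
      rw [he, hj, pow_add]
      linear_combination e * γ ^ j * hn (gen i)
    | zero => simp
    | add u v _ _ hu hv => rw [map_add, hu, hv, map_add]
    | smul c u _ hu => rw [map_smul, hu, map_smul]
  obtain ⟨k, hk⟩ := hd.ann _ hall
  obtain ⟨e, he⟩ := hγ
  have h2 : g ^ (k + N) * α = 0 := by
    have h1 := congrArg (algebraMap B L) hk
    simp only [map_mul, map_pow, map_zero] at h1
    rw [← hb, ← hg] at h1
    have hu : IsUnit (algebraMap B L Sg * algebraMap B L σ) := by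
      rw [← map_mul]
      exact IsLocalization.map_units L (⟨Sg * σ, W.mul_mem (W.prod_mem fun i _ => hσ' _) σ.2⟩ : W)
    refine hu.mul_right_eq_zero.1 ?_
    have hge : g = algebraMap B L h * algebraMap B L e := by rw [hg, he, map_mul]
    linear_combination algebraMap B L e ^ k * h1 +
      g ^ N * α * algebraMap B L Sg * algebraMap B L σ * (congrArg (fun z => z ^ k) hge)
  refine (unit_pow g m).mul_left_eq_zero.1 (hα.trans ?_)
  rw [← map_zero (algebraMap L (Ov g)), algebraMap_eq_iff]
  exact ⟨k + N, by rw [h2, mul_zero]⟩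

include W in
/-- Generators on the members of a family give a cocycle. -/
theorem exists_gen_cocycle {K : Type u} {h : K → B} {f : K → L} (hf : ∀ k, f k = algebraMap B L (h k))
    {d : K → M →ₗ[B] B} (hd : ∀ k, Gen (h k) (d k)) :
    ∃ T : ∀ k l, Ov (f k * f l), IsCocycle f T ∧ ∀ k l x,
      algebraMap L (Ov (f k * f l)) (algebraMap B L (d k x)) =
        T k l * algebraMap L (Ov (f k * f l)) (algebraMap B L (d l x)) := by
  have hex : ∀ k l, ∃ T : Ov (f k * f l), ∀ x, algebraMap L (Ov (f k * f l)) (algebraMap B L (d k x)) =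
      T * algebraMap L (Ov (f k * f l)) (algebraMap B L (d l x)) := by
    intro k l
    obtain ⟨c, n, e⟩ := (hd l).gen (d k)
    obtain ⟨u, hu⟩ := (isUnit_of_dvd (dvd_mul_left (f l) (f k))).pow n
    refine ⟨(u⁻¹ : (Ov (f k * f l))ˣ) * algebraMap L _ (algebraMap B L c), fun x => ?_⟩
    have h1 := congrArg (fun φ : M →ₗ[B] B => algebraMap L (Ov (f k * f l)) (algebraMap B L (φ x))) e
    simp only [LinearMap.smul_apply, smul_eq_mul, map_mul, map_pow, ← hf] at h1
    rw [← hu] at h1
    linear_combination ((u⁻¹ : (Ov (f k * f l))ˣ) : Ov (f k * f l)) * h1 -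
      algebraMap L (Ov (f k * f l)) (algebraMap B L (d k x)) * Units.inv_mul u
  choose T hT using hex
  refine ⟨T, ⟨fun k l => ?_, fun k l m => ?_⟩, hT⟩
  · refine IsUnit.of_mul_eq_one (res (f l * f k) (f k * f l) ⟨1, by ring⟩ (T l k)) (sub_eq_zero.1
      (eq_zero_of_values W (hd k) (γ := h k * h l) (dvd_mul_right _ _) (by rw [map_mul, ← hf, ← hf]) _ fun x => ?_))
    have h1 := congrArg (res (f l * f k) (f k * f l) ⟨1, by ring⟩) (hT l k x)
    simp only [map_mul, res_algebraMap] at h1
    linear_combination (-1 : Ov (f k * f l)) * hT k l x - T k l * h1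
  · refine sub_eq_zero.1 (eq_zero_of_values W (hd m) (γ := h k * h l * h m) (dvd_mul_left _ _)
      (by simp only [map_mul, ← hf]) _ fun x => ?_)
    have h1 := congrArg (res _ (f k * f l * f m) (dvd_mul_right _ _)) (hT k l x)
    have h2 := congrArg (res _ (f k * f l * f m) ⟨f k, by ring⟩) (hT l m x)
    have h3 := congrArg (res _ (f k * f l * f m) ⟨f l, by ring⟩) (hT k m x)
    simp only [map_mul, res_algebraMap] at h1 h2 h3
    linear_combination h3 - h1 - (res _ (f k * f l * f m) (dvd_mul_right _ _) (T k l)) * h2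

end Groth.Agent.SGA11
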