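import Groth.Agent.SGA11.Alg
import Groth.Agent.SGA11.Free

/-!
# Cocycles on the punctured hypersurface come from the punctured spectrum
-/

set_option autoImplicit false
set_option linter.style.haveILetI false
universe u

open IsLocalRing

namespace Groth.Agent.SGA11

open PicU24

variable {B : Type u} [CommRing B] [IsLocalRing B] [IsNoetherianRing B]

/-- A prime off the hypersurface lies under one on it, away from the closed point, unless it is a one
dimensional point. -/
theorem exists_prime_ge_mem {t : B} (ht : t ∈ maximalIdeal B) (q : Ideal B) [q.IsPrime] (hq : q ≠ maximalIdeal B)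
    (hdim : ringKrullDim (B ⧸ q) ≠ 1) : ∃ P : PrimeSpectrum B, q ≤ P.asIdeal ∧ t ∈ P.asIdeal ∧ P ≠ closedPoint B := by
  by_contra hcon
  have hcon' : ∀ P : PrimeSpectrum B, q ≤ P.asIdeal → t ∈ P.asIdeal → P = closedPoint B := fun P h1 h2 => by
    by_contra h3
    exact hcon ⟨P, h1, h2, h3⟩
  apply hdim
  haveI : IsLocalRing (B ⧸ q) := .of_surjective' (Ideal.Quotient.mk q) Ideal.Quotient.mk_surjective
  have htm : Ideal.Quotient.mk q t ∈ maximalIdeal (B ⧸ q) := by
    rw [← IsLocalRing.map_maximalIdeal_of_surjective (Ideal.Quotient.mk q) Ideal.Quotient.mk_surjective]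
    exact Ideal.mem_map_of_mem _ ht
  refine le_antisymm ?_ ?_
  · let J : Ideal (B ⧸ q) := Ideal.span {Ideal.Quotient.mk q t}
    have h0 : ringKrullDim ((B ⧸ q) ⧸ J) ≤ 0 := by
      haveI : Ring.KrullDimLE 0 ((B ⧸ q) ⧸ J) := Ring.krullDimLE_zero_iff.2 fun R hR => by
        let π := (Ideal.Quotient.mk J).comp (Ideal.Quotient.mk q)
        have hπ : Function.Surjective π := Ideal.Quotient.mk_surjective.comp Ideal.Quotient.mk_surjective
        have hc := congrArg PrimeSpectrum.asIdeal (hcon' ⟨R.comap π, inferInstance⟩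
          (fun x hx => show π x ∈ R by simp [π, Ideal.Quotient.eq_zero_iff_mem.2 hx])
          (show π t ∈ R by
            rw [show π t = 0 from Ideal.Quotient.eq_zero_iff_mem.2 (Ideal.mem_span_singleton_self _)]
            exact R.zero_mem))
        change R.comap π = maximalIdeal B at hc
        rw [← Ideal.map_comap_of_surjective π hπ R]
        rcases Ideal.map_eq_top_or_isMaximal_of_surjective π hπ (hc ▸ maximalIdeal.isMaximal B) with h' | h'
        · exact absurd h' (by rw [Ideal.map_comap_of_surjective π hπ R]; exact hR.ne_top)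
        · exact h'
      exact Order.KrullDimLE.krullDim_le
    have h1 := ringKrullDim_le_ringKrullDim_quotient_add_card (R := B ⧸ q) ({Ideal.Quotient.mk q t} : Finset (B ⧸ q))
      (by simpa [IsLocalRing.ringJacobson_eq_maximalIdeal] using htm)
    simp only [Finset.coe_singleton, Finset.card_singleton, Nat.cast_one] at h1
    rw [Finset.coe_singleton] at h1
    calc ringKrullDim (B ⧸ q) ≤ _ + 1 := h1
      _ ≤ 0 + 1 := add_le_add h0 le_rfl
      _ = 1 := zero_add 1
  · by_contra hlt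
    haveI : Ring.KrullDimLE 0 (B ⧸ q) := Ring.krullDimLE_iff.2 (by
      rw [not_le] at hlt
      cases hr : ringKrullDim (B ⧸ q) with
      | bot => simp
      | coe d =>
        rw [hr] at hlt
        have : d < 1 := WithBot.coe_lt_coe.1 (by simpa using hlt)
        exact WithBot.coe_le_coe.2 (Order.lt_one_iff.1 this).le)
    exact hq (IsLocalRing.eq_maximalIdeal (Ideal.Quotient.maximal_of_isField q
      (Ring.KrullDimLE.isField_of_isDomain (R := B ⧸ q))))

/-- An element of a localization killed off every prime vanishes. -/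
theorem eq_zero_of_forall_prime {C : Type u} [CommRing C] (φ : B →+* C) (w : C)
    (h : ∀ 𝔭 : Ideal C, 𝔭.IsPrime → ∃ s : B, φ s ∉ 𝔭 ∧ φ s * w = 0) : w = 0 := by
  by_contra hw
  obtain ⟨𝔭, hp, hle⟩ := Ideal.exists_le_maximal (Ideal.torsionOf C C w)
    fun e => hw ((Ideal.torsionOf_eq_top_iff C w).1 e)
  obtain ⟨s, hs, hs'⟩ := h 𝔭 hp.isPrime
  exact hs (hle ((Ideal.mem_torsionOf_iff _ _).2 hs'))

/-- Every cocycle on the punctured hypersurface is, up to coboundaries and refinement, the restriction of a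
cocycle on the punctured spectrum. -/
theorem exists_lift_cocycle {K : Type u} [Fintype K] {t : B} (ht : t ∈ maximalIdeal B) (hreg : IsSMulRegular B t)
    [IsAdicComplete (Ideal.span {t}) B] [IsLocalRing (B ⧸ Ideal.span {t ^ (0 + 1)})]
    (hd : (4 : ℕ∞) ≤ LocCoh.depth (B ⧸ Ideal.span {t ^ (0 + 1)}) (B ⧸ Ideal.span {t ^ (0 + 1)}))
    (hq : ∀ q : PrimeSpectrum B, t ∉ q.asIdeal → ringKrullDim (B ⧸ q.asIdeal) = 1 →
      (2 : ℕ∞) ≤ LocCoh.depth (Localization.AtPrime q.asIdeal) (Localization.AtPrime q.asIdeal) ∧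
        ∀ (K : Type u) [Fintype K] (f : K → Localization.AtPrime q.asIdeal), IsCover f →
          ∀ T, IsCocycle f T → Triv f T)
    {f : K → B} (hf : IsCover (fn t f 0)) {T : ∀ k l, Ov (fn t f 0 k * fn t f 0 l)}
    (hT : IsCocycle (fn t f 0) T) :
    ∃ (L : Type u) (_ : Fintype L) (g : L → B) (_ : IsCover g) (S : ∀ k l, Ov (g k * g l)) (_ : IsCocycle g S)
      (σ : L → K) (hσ : ∀ l, fn t f 0 (σ l) ∣ fn t g 0 l) (v : ∀ l, Ov (fn t g 0 l)),
      (∀ l, IsUnit (v l)) ∧ ∀ k l,
        r₂ (fn t g 0) k l (v l) * res _ _ (mul_dvd_mul (hσ k) (hσ l)) (T (σ k) (σ l)) =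
          r₁ (fn t g 0) k l (v k) * push (πn t 0) (fn t g 0) (fun _ => rfl) S k l := by
  classical
  obtain ⟨M, _, _, _, a, hasect, hy⟩ := exists_algebraization ht hreg hf hd hT
  choose y s hyu hygen hyP using hy
  -- good primes
  have hgoodt : ∀ P : PrimeSpectrum B, t ∈ P.asIdeal → P ≠ closedPoint B → Good M P.asIdeal := by
    intro P htP hP
    have hker : RingHom.ker (πn t 0) ≤ P.asIdeal := by
      rw [Ideal.mk_ker, zero_add, pow_one]; exact (Ideal.span_singleton_le_iff_mem _).2 htP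
    haveI := Ideal.map_isPrime_of_surjective (f := πn t 0) Ideal.Quotient.mk_surjective hker (I := P.asIdeal)
    obtain ⟨i, hi⟩ := hf.cov ⟨P.asIdeal.map (πn t 0), inferInstance⟩ fun e => hP (by
      refine PrimeSpectrum.ext ?_
      show P.asIdeal = maximalIdeal B
      have h1 : (P.asIdeal.map (πn t 0)).comap (πn t 0) = P.asIdeal := by
        rw [Ideal.comap_map_of_surjective _ Ideal.Quotient.mk_surjective, ← RingHom.ker_eq_comap_bot,
          sup_eq_left.2 hker]
      rw [← h1, show P.asIdeal.map (πn t 0) = maximalIdeal _ from congrArg PrimeSpectrum.asIdeal e]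
      haveI : IsLocalHom (πn t 0) := IsLocalHom.of_surjective _ Ideal.Quotient.mk_surjective
      exact congrArg PrimeSpectrum.asIdeal (IsLocalRing.comap_closedPoint (πn t 0)))
    have hi' : f i ∉ P.asIdeal := fun h => hi (Ideal.mem_map_of_mem _ h)
    obtain ⟨hs, hann⟩ := hyP i _ P.isPrime htP hi'
    obtain ⟨h, hh, d, hd, -⟩ := good_of_cyclic hs (hygen i) hann
    exact ⟨h, hh, d, hd⟩
  have hgood2 : ∀ q : Ideal B, q.IsPrime → q ≠ maximalIdeal B → (t ∈ q ∨ ringKrullDim (B ⧸ q) ≠ 1) → Good M q := by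
    intro q hqp hqm h
    rcases h with h | h
    · exact hgoodt ⟨q, hqp⟩ h fun e => hqm (congrArg PrimeSpectrum.asIdeal e)
    · obtain ⟨P, hP1, hP2, hP3⟩ := exists_prime_ge_mem ht q hqm h
      exact (hgoodt P hP2 hP3).mono hP1
  have hgood : ∀ q : Ideal B, q.IsPrime → q ≠ maximalIdeal B → Good M q := by
    intro q hqp hqm
    by_cases h : t ∈ q ∨ ringKrullDim (B ⧸ q) ≠ 1
    · exact hgood2 q hqp hqm h
    obtain ⟨htq, hdim⟩ := not_or.1 h
    obtain ⟨h2, htriv⟩ := hq ⟨q, hqp⟩ htq (not_not.1 hdim)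
    refine good_of_triv q h2 htriv fun q' hq' hlt => hgood2 q' hq'
      (fun e => (e ▸ hlt).not_ge (le_maximalIdeal hqp.ne_top)) (Or.inr fun hdim' => ?_)
    have h3 : ringKrullDim (B ⧸ q) + 1 ≤ ringKrullDim (B ⧸ q') := by
      obtain ⟨x, hx, hx'⟩ := SetLike.exists_of_lt hlt
      haveI := hq'
      let π : B ⧸ q' →+* B ⧸ q := Ideal.Quotient.factor hlt.le
      exact ringKrullDim_succ_le_of_surjective π (Ideal.Quotient.factor_surjective _)
        (mem_nonZeroDivisors_of_ne_zero fun e => hx' (Ideal.Quotient.eq_zero_iff_mem.1 e : x ∈ q'))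
        (by simp [π, Ideal.Quotient.eq_zero_iff_mem.2 hx])
    rw [hdim', not_not.1 hdim] at h3
    exact absurd h3 (by decide)
  -- generators on a cover
  haveI : IsLocalization (⊥ : Submonoid B) B := IsLocalization.self bot_le
  obtain ⟨L₀, _, h, d, hdgen, hcov⟩ := exists_cover_gen (M := M) (L := B) (⊥ : Submonoid B) fun Q hQ => by
    rw [Algebra.algebraMap_self, Ideal.comap_id]
    exact hgood _ Q.isPrime fun e => hQ (PrimeSpectrum.ext e)
  simp only [Algebra.algebraMap_self, RingHom.id_apply] at hcov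
  obtain ⟨i₀⟩ : Nonempty K := by
    by_contra hK
    haveI : IsEmpty K := not_nonempty_iff.1 hK
    exact zero_ne_one (eq_of_forall_algebraMap_eq (le_trans (by norm_num) hd) hf
      (x := (0 : B ⧸ Ideal.span {t ^ (0 + 1)})) (y := 1) fun k => isEmptyElim k)
  let g : (L₀ × K) ⊕ L₀ → B := Sum.elim (fun p => h p.1 * f p.2) fun l => h l * t
  let σ : (L₀ × K) ⊕ L₀ → K := Sum.elim Prod.snd fun _ => i₀
  let D : (L₀ × K) ⊕ L₀ → M →ₗ[B] B := Sum.elim (fun p => d p.1) d
  have hgmem : ∀ l, g l ∈ maximalIdeal B := by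
    rintro (⟨l, i⟩ | l) <;> exact Ideal.mul_mem_right _ _ (hcov.mem l)
  have hgcov : IsCover g := by
    refine ⟨hgmem, fun P hP => ?_⟩
    obtain ⟨l, hl⟩ := hcov.cov P hP
    by_cases htP : t ∈ P.asIdeal
    · have hker : RingHom.ker (πn t 0) ≤ P.asIdeal := by
        rw [Ideal.mk_ker, zero_add, pow_one]; exact (Ideal.span_singleton_le_iff_mem _).2 htP
      haveI := Ideal.map_isPrime_of_surjective (f := πn t 0) Ideal.Quotient.mk_surjective hker (I := P.asIdeal)
      by_contra hcon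
      simp only [not_exists, not_not] at hcon
      have hall : ∀ i, f i ∈ P.asIdeal := fun i => (P.isPrime.mem_or_mem (hcon (Sum.inl (l, i)))).resolve_left hl
      have hmax : P.asIdeal.map (πn t 0) = maximalIdeal _ := by
        by_contra hne
        obtain ⟨i, hi⟩ := hf.cov ⟨P.asIdeal.map (πn t 0), inferInstance⟩ fun e => hne (congrArg PrimeSpectrum.asIdeal e)
        exact hi (Ideal.mem_map_of_mem _ (hall i))
      refine hP (PrimeSpectrum.ext (show P.asIdeal = maximalIdeal B from ?_))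
      haveI : IsLocalHom (πn t 0) := IsLocalHom.of_surjective _ Ideal.Quotient.mk_surjective
      rw [show maximalIdeal B = (maximalIdeal _).comap (πn t 0) from
          (congrArg PrimeSpectrum.asIdeal (IsLocalRing.comap_closedPoint (πn t 0))).symm, ← hmax,
        Ideal.comap_map_of_surjective _ Ideal.Quotient.mk_surjective, ← RingHom.ker_eq_comap_bot, sup_eq_left.2 hker]
    · exact ⟨Sum.inr l, fun h' => (P.isPrime.mem_or_mem h').elim hl htP⟩
  have hDgen : ∀ l, Gen (g l) (D l) := by rintro (⟨l, i⟩ | l) <;> exact (hdgen l).mul_right _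
  obtain ⟨S, hS, hSd⟩ := exists_gen_cocycle (L := B) (⊥ : Submonoid B) (f := g) (fun _ => rfl) hDgen
  have hσ : ∀ l, fn t f 0 (σ l) ∣ fn t g 0 l := by
    rintro (⟨l, i⟩ | l)
    · exact ⟨πn t 0 (h l), by simp [fn, g, σ, mul_comm]⟩
    · refine ⟨0, ?_⟩
      simp only [fn, g, Sum.elim_inr, map_mul, mul_zero]
      rw [show πn t 0 t = 0 from Ideal.Quotient.eq_zero_iff_mem.2 (by simp [Ideal.mem_span_singleton_self]),
        mul_zero]
  obtain ⟨S', hS', hSS'⟩ := exists_inv_cocycle hS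
  let ψ : ∀ l, B →+* Ov (fn t g 0 l) := fun l => (algebraMap _ _).comp (πn t 0)
  let α : ∀ l, M → Ov (fn t g 0 l) := fun l x => res _ _ (hσ l) (a (σ l) x)
  let β : ∀ l, M → Ov (fn t g 0 l) := fun l x => ψ l (D l x)
  have hαs : ∀ l c x, α l (c • x) = ψ l c * α l x := fun l c x => by
    simp only [α, ψ, map_smul, Algebra.smul_def, map_mul]
    rw [IsScalarTower.algebraMap_apply B (B ⧸ Ideal.span {t ^ (0 + 1)}) (Ov (fn t f 0 (σ l))), res_algebraMap]
    rfl
  have hβs : ∀ l c x, β l (c • x) = ψ l c * β l x := fun l c x => by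
    simp only [β, map_smul, smul_eq_mul, map_mul]
  have hprime : ∀ l (𝔭 : Ideal (Ov (fn t g 0 l))), 𝔭.IsPrime →
      t ∈ 𝔭.comap (ψ l) ∧ f (σ l) ∉ 𝔭.comap (ψ l) ∧ g l ∉ 𝔭.comap (ψ l) := by
    intro l 𝔭 h𝔭
    have hu : ψ l (g l) ∉ 𝔭 := fun h => h𝔭.ne_top (Ideal.eq_top_of_isUnit_mem _ h
      (IsLocalization.Away.algebraMap_isUnit (fn t g 0 l)))
    refine ⟨?_, fun h => h𝔭.ne_top (Ideal.eq_top_of_isUnit_mem _ h (isUnit_of_dvd (hσ l))), hu⟩
    rw [Ideal.mem_comap, show ψ l t = 0 by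
      simp only [ψ, RingHom.comp_apply]
      rw [show πn t 0 t = 0 from Ideal.Quotient.eq_zero_iff_mem.2 (by simp [Ideal.mem_span_singleton_self]), map_zero]]
    exact 𝔭.zero_mem
  have hprop : ∀ l x, β l x * α l (y (σ l)) = β l (y (σ l)) * α l x := by
    intro l x
    refine sub_eq_zero.1 (eq_zero_of_forall_prime (ψ l) _ fun 𝔭 h𝔭 => ?_)
    obtain ⟨h1, h2, -⟩ := hprime l 𝔭 h𝔭
    refine ⟨s (σ l), (hyP (σ l) _ (h𝔭.comap (ψ l)) h1 h2).1, ?_⟩
    obtain ⟨r, hr⟩ := hygen (σ l) x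
    rw [mul_sub, ← mul_assoc, ← hβs, hr, hβs, mul_left_comm, ← hαs, hr, hαs]
    ring
  have hβu : ∀ l, IsUnit (β l (y (σ l))) := by
    intro l
    by_contra hu
    obtain ⟨𝔭, h𝔭, hmem⟩ := exists_max_ideal_of_mem_nonunits hu
    obtain ⟨h1, h2, h3⟩ := hprime l 𝔭 h𝔭.isPrime
    obtain ⟨hs, hann⟩ := hyP (σ l) _ (h𝔭.isPrime.comap (ψ l)) h1 h2
    haveI := h𝔭.isPrime
    obtain ⟨h', hh', d', -, hd'y⟩ := good_of_cyclic hs (hygen (σ l)) hann
    obtain ⟨c, n, e⟩ := (hDgen l).gen d'
    have e' := congrArg (fun φ : M →ₗ[B] B => ψ l (φ (y (σ l)))) e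
    simp only [LinearMap.smul_apply, smul_eq_mul, map_mul, hd'y] at e'
    have : ψ l (g l ^ n) * ψ l h' ∈ 𝔭 := e' ▸ Ideal.mul_mem_left _ _ hmem
    rcases h𝔭.isPrime.mem_or_mem this with h4 | h4
    · rw [map_pow] at h4; exact h3 (h𝔭.isPrime.mem_of_pow_mem _ h4)
    · exact hh' h4
  have hαu : ∀ l, IsUnit (α l (y (σ l))) := fun l => (hyu (σ l)).map _
  choose w hw using fun l => (hαu l).exists_right_inv
  let v : ∀ l, Ov (fn t g 0 l) := fun l => β l (y (σ l)) * w l
  refine ⟨_, inferInstance, g, hgcov, S', hS', σ, hσ, v,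
    fun l => (hβu l).mul (IsUnit.of_mul_eq_one_right _ (hw l)), fun k l => ?_⟩
  have hv : ∀ l x, β l x = v l * α l x := fun l x => by
    simp only [v]
    linear_combination w l * hprop l x - β l x * hw l
  let x := y (σ k)
  let Q : Ov (g k * g l) →+* Ov (fn t g 0 k * fn t g 0 l) := mv (πn t 0) _ _ (dL (πn t 0) (fun _ => rfl) k l)
  have h1 : r₁ (fn t g 0) k l (β k x) = Q (S k l) * r₂ (fn t g 0) k l (β l x) := by
    have := congrArg Q (hSd k l x)
    simp only [Algebra.algebraMap_self, RingHom.id_apply] at this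
    rw [RingHom.map_mul Q] at this
    simp only [Q, mv_algebraMap] at this
    simp only [β, ψ, RingHom.comp_apply, r₁, r₂, res_algebraMap]
    exact this
  have h2 : r₂ (fn t g 0) k l (α l x) =
      r₁ (fn t g 0) k l (α k x) * res _ _ (mul_dvd_mul (hσ k) (hσ l)) (T (σ k) (σ l)) := by
    have := congrArg (res _ (fn t g 0 k * fn t g 0 l) (mul_dvd_mul (hσ k) (hσ l))) (hasect x (σ k) (σ l))
    simp only [r₁, r₂, map_mul, res_res] at this
    simp only [α, r₁, r₂, res_res]
    exact this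
  have h3 : Q (S k l) * push (πn t 0) (fn t g 0) (fun _ => rfl) S' k l = 1 := by
    show Q (S k l) * Q (S' k l) = 1
    exact (RingHom.map_mul Q _ _).symm.trans ((congrArg Q (hSS' k l)).trans (map_one Q))
  refine ((hαu k).map (r₁ (fn t g 0) k l)).mul_left_injective ?_
  show _ * r₁ (fn t g 0) k l (α k x) = _ * r₁ (fn t g 0) k l (α k x)
  have h1' : r₁ (fn t g 0) k l (v k) * r₁ (fn t g 0) k l (α k x) =
      Q (S k l) * (r₂ (fn t g 0) k l (v l) * r₂ (fn t g 0) k l (α l x)) := by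
    rw [← RingHom.map_mul (r₁ (fn t g 0) k l), ← RingHom.map_mul (r₂ (fn t g 0) k l), ← hv, ← hv]
    exact h1
  linear_combination -(r₂ (fn t g 0) k l (v l)) * h2 - push (πn t 0) (fn t g 0) (fun _ => rfl) S' k l * h1' -
    r₂ (fn t g 0) k l (v l) * r₂ (fn t g 0) k l (α l x) * h3

end Groth.Agent.SGA11
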