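import Groth.Agent.PicU24.Lift
import Groth.Agent.PicU24.Extend

/-!
# Two-cocycles on a punctured spectrum, and lifting cocycles of units across a square zero element
-/

set_option autoImplicit false
set_option linter.style.haveILetI false
universe u

open IsLocalRing

namespace Groth.Agent.SGA11

open PicU24

variable {B C : Type u} [CommRing B] [CommRing C] {K : Type u}

/-- Restriction to a triple from the first pair. -/
noncomputable abbrev p₃ (f : K → B) (k l m : K) : Ov (f k * f l) →+* Ov (f k * f l * f m) :=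
  res _ _ (dvd_mul_right _ _)

/-- Restriction to a triple from the last pair. -/
noncomputable abbrev p₁ (f : K → B) (k l m : K) : Ov (f l * f m) →+* Ov (f k * f l * f m) :=
  res _ _ ⟨f k, by ring⟩

/-- Restriction to a triple from the outer pair. -/
noncomputable abbrev p₂ (f : K → B) (k l m : K) : Ov (f k * f m) →+* Ov (f k * f l * f m) :=
  res _ _ ⟨f l, by ring⟩

/-- An additive cocycle of degree two. -/
def IsCo2 (f : K → B) (c : ∀ k l m, Ov (f k * f l * f m)) : Prop :=
  ∀ i k l m,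
    res _ (f i * f k * f l * f m) ⟨f i, by ring⟩ (c k l m) + res _ (f i * f k * f l * f m) ⟨f l, by ring⟩ (c i k m) =
      res _ (f i * f k * f l * f m) ⟨f k, by ring⟩ (c i l m) + res _ (f i * f k * f l * f m) ⟨f m, by ring⟩ (c i k l)

/-- The coboundary of a family on double intersections. -/
noncomputable def d₁ (f : K → B) (b : ∀ k l, Ov (f k * f l)) (k l m : K) : Ov (f k * f l * f m) :=
  p₃ f k l m (b k l) + p₁ f k l m (b l m) - p₂ f k l m (b k m)

theorem exists_extend_of (h g e : B) (he : e = h * g) (c : Ov e) :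
    ∃ M : ℕ, ∀ N, M ≤ N → ∃ b : Ov g,
      res g e (he ▸ dvd_mul_left g h) b = algebraMap B (Ov e) (h ^ N) * c := by
  subst he
  exact exists_extend (f := fun i : ULift.{u} Bool => if i.down then h else g) ⟨true⟩ ⟨false⟩ c

theorem exists_bound2 [Fintype K] {f : K → B} {c : ∀ k l m, Ov (f k * f l * f m)} (hc : IsCo2 f c) (j : K) :
    ∃ M : ℕ, ∀ N, M ≤ N → ∃ b : ∀ k l, Ov (f k * f l),
      ∀ k l m, algebraMap B (Ov (f k * f l * f m)) (f j ^ N) * c k l m = d₁ f b k l m := by
  classical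
  choose M hM using fun k l => exists_extend_of (f j) (f k * f l) _ (mul_assoc (f j) (f k) (f l)) (c j k l)
  let N₀ := ∑ k, ∑ l, M k l
  choose b hb using fun k l => hM k l N₀ ((Finset.single_le_sum (f := M k) (fun _ _ => Nat.zero_le _)
    (Finset.mem_univ l)).trans (Finset.single_le_sum (f := fun k => ∑ l, M k l) (fun _ _ => Nat.zero_le _)
      (Finset.mem_univ k)))
  have hz : ∀ k l m, ∃ P : ℕ, algebraMap B (Ov (f k * f l * f m)) (f j) ^ P *
      (algebraMap B _ (f j ^ N₀) * c k l m - d₁ f b k l m) = 0 := by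
    intro k l m
    refine exists_pow_mul_eq_zero_of_res (dvd_mul_right _ _) ?_
    have h0 := congrArg (res _ (f k * f l * f m * f j) ⟨1, by ring⟩) (hc j k l m)
    have h1 := congrArg (res _ (f k * f l * f m * f j) ⟨f l, by ring⟩) (hb k m)
    have h2 := congrArg (res _ (f k * f l * f m * f j) ⟨f k, by ring⟩) (hb l m)
    have h3 := congrArg (res _ (f k * f l * f m * f j) ⟨f m, by ring⟩) (hb k l)
    simp only [d₁, p₁, p₂, p₃, map_mul, map_add, map_sub, res_res, res_algebraMap] at h0 h1 h2 h3 ⊢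
    linear_combination algebraMap B (Ov (f k * f l * f m * f j)) (f j ^ N₀) * h0 - h3 - h2 + h1
  choose P hP using hz
  let Q := ∑ k, ∑ l, ∑ m, P k l m
  refine ⟨N₀ + Q, fun N hN => ?_⟩
  obtain ⟨r, rfl⟩ := Nat.exists_eq_add_of_le hN
  refine ⟨fun k l => algebraMap B _ (f j ^ (Q + r)) * b k l, fun k l m => ?_⟩
  obtain ⟨s, hs⟩ := Nat.exists_eq_add_of_le (((Finset.single_le_sum (f := P k l) (fun _ _ => Nat.zero_le _)
      (Finset.mem_univ m)).trans (Finset.single_le_sum (f := fun l => ∑ m, P k l m) (fun _ _ => Nat.zero_le _)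
      (Finset.mem_univ l))).trans (Finset.single_le_sum (f := fun k => ∑ l, ∑ m, P k l m) (fun _ _ => Nat.zero_le _)
      (Finset.mem_univ k)) : P k l m ≤ Q)
  have h := hP k l m
  simp only [d₁, p₁, p₂, p₃, map_mul, res_algebraMap, map_pow, hs, pow_add] at h ⊢
  linear_combination (algebraMap B (Ov (f k * f l * f m)) (f j) ^ s) *
    (algebraMap B (Ov (f k * f l * f m)) (f j) ^ r) * h

/-- In depth four classes of degree two vanish. -/
theorem exists_coboundary2 [IsLocalRing B] [IsNoetherianRing B] (hd : (4 : ℕ∞) ≤ LocCoh.depth B B) [Fintype K]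
    {f : K → B} (hf : IsCover f) {c : ∀ k l m, Ov (f k * f l * f m)} (hc : IsCo2 f c) :
    ∃ b : ∀ k l, Ov (f k * f l), ∀ k l m, c k l m = d₁ f b k l m := by
  classical
  obtain ⟨x₀, hx₀, hreg₀⟩ := (Alg6.exists_isSMulRegular_mem_iff (M := B) (maximalIdeal B)).mpr fun p hp hle => by
    have := (maximalIdeal.isMaximal B).eq_of_le (IsAssociatedPrime.isPrime hp).ne_top hle
    exact Alg6.one_le_depth_iff.1 (le_trans (by norm_num) hd) (this ▸ hp)
  choose M hM using exists_bound2 hc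
  let N := ∑ j, M j
  choose b hb using fun j => hM j N (Finset.single_le_sum (fun _ _ => Nat.zero_le _) (Finset.mem_univ j))
  have hrad : x₀ ∈ (Ideal.span (Set.range fun j => f j ^ N)).radical := by
    rw [Ideal.radical_eq_sInf]
    refine Submodule.mem_sInf.2 fun P ⟨hP, hPp⟩ => ?_
    by_contra hxP
    obtain ⟨k, hk⟩ := hf.cov ⟨P, hPp⟩ fun e => hxP ((congrArg PrimeSpectrum.asIdeal e).ge hx₀)
    exact hk (hPp.mem_of_pow_mem N (hP (Ideal.subset_span ⟨k, rfl⟩)))
  obtain ⟨p, hp⟩ := hrad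
  let x := x₀ ^ (p + 1)
  have hxmem : x ∈ Ideal.span (Set.range fun j => f j ^ N) := by
    simp only [x, pow_succ]
    exact Ideal.mul_mem_right _ _ hp
  obtain ⟨w, hw⟩ := Ideal.mem_span_range_iff_exists_fun.1 hxmem
  let β : ∀ k l, Ov (f k * f l) := fun k l => ∑ j, algebraMap B _ (w j) * b j k l
  have hβ : ∀ k l m, algebraMap B _ x * c k l m = d₁ f β k l m := fun k l m => by
    have e : d₁ f β k l m = ∑ j, algebraMap B _ (w j) * d₁ f (b j) k l m := by
      simp only [d₁, β, p₁, p₂, p₃, map_sum, map_mul, res_algebraMap, ← Finset.sum_add_distrib,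
        ← Finset.sum_sub_distrib, mul_add, mul_sub]
    rw [e, ← hw, map_sum, Finset.sum_mul]
    exact Finset.sum_congr rfl fun j _ => by
      rw [map_mul]
      exact (mul_assoc _ _ _).trans (congrArg _ (hb j k l m))
  have hreg : IsSMulRegular B x := hreg₀.pow _
  have hxm : x ∈ maximalIdeal B := Ideal.pow_mem_of_mem _ hx₀ _ (Nat.succ_pos _)
  haveI : Nontrivial (B ⧸ Ideal.span {x}) :=
    Ideal.Quotient.nontrivial_iff.2 fun e => (maximalIdeal.isMaximal B).ne_top
      (top_le_iff.1 (e ▸ (Ideal.span_singleton_le_iff_mem _).2 hxm))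
  haveI : IsLocalRing (B ⧸ Ideal.span {x}) := .of_surjective' (Ideal.Quotient.mk _) Ideal.Quotient.mk_surjective
  haveI : IsLocalHom (Ideal.Quotient.mk (Ideal.span {x})) :=
    IsLocalHom.of_surjective _ Ideal.Quotient.mk_surjective
  let π := Ideal.Quotient.mk (Ideal.span {x})
  let g : K → B ⧸ Ideal.span {x} := fun k => π (f k)
  have hg : IsCover g := isCover_push π (fun P hP => PrimeSpectrum.ext
    (le_antisymm (le_maximalIdeal P.isPrime.ne_top) (by
      show maximalIdeal _ ≤ _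
      rw [← IsLocalRing.map_maximalIdeal_of_surjective π Ideal.Quotient.mk_surjective]
      exact Ideal.map_le_iff_le_comap.2 hP))) (fun _ => rfl) hf
  have hd3 : (3 : ℕ∞) ≤ LocCoh.depth (B ⧸ Ideal.span {x}) (B ⧸ Ideal.span {x}) :=
    (depth_quotient_succ hxm hreg 3).2 hd
  have hπx : π x = 0 := Ideal.Quotient.eq_zero_iff_mem.2 (Ideal.mem_span_singleton_self x)
  have hadd : IsAddCocycle g (push π g (fun _ => rfl) β) := fun k l m => by
    have h3 : π (f k * f l * f m) ∣ g k * g l * g m := by simp [g]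
    have := congrArg (mv π _ _ h3) (hβ k l m)
    simp only [d₁, p₁, p₂, p₃] at this
    rw [map_mul, mv_algebraMap, hπx, map_zero, zero_mul, map_sub, map_add,
      mv_res_eq π _ h3 (dL π (g := g) (fun _ => rfl) k l) (dvd_mul_right _ _),
      mv_res_eq π _ h3 (dL π (g := g) (fun _ => rfl) l m) ⟨g k, by ring⟩,
      mv_res_eq π _ h3 (dL π (g := g) (fun _ => rfl) k m) ⟨g l, by ring⟩] at this
    exact sub_eq_zero.1 this.symm
  obtain ⟨γ₀, hγ₀⟩ := exists_coboundary hd3 hg hadd
  choose γ hγ using fun k => mv_surjective π Ideal.Quotient.mk_surjective (f k) (g k) rfl (γ₀ k)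
  have hdiv : ∀ k l, ∃ y, β k l - (r₂ f k l (γ l) - r₁ f k l (γ k)) = algebraMap B _ x * y := fun k l =>
    exists_eq_algebraMap_mul π Ideal.Quotient.mk_surjective x Ideal.mk_ker (f k * f l) (g k * g l) (map_mul π _ _) (by
      rw [map_sub, map_sub, mv_res_eq π _ _ (dvd_refl (g l)) (dvd_mul_left _ _),
        mv_res_eq π _ _ (dvd_refl (g k)) (dvd_mul_right _ _), hγ, hγ, sub_eq_zero]
      exact hγ₀ k l)
  choose y hy using hdiv
  refine ⟨y, fun k l m => sub_eq_zero.1 (regular_algebraMap _ hreg ?_)⟩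
  have h1 := congrArg (p₃ f k l m) (hy k l)
  have h2 := congrArg (p₁ f k l m) (hy l m)
  have h3 := congrArg (p₂ f k l m) (hy k m)
  have h0 := hβ k l m
  simp only [d₁, p₁, p₂, p₃, r₁, r₂, map_sub, map_mul, res_res, res_algebraMap] at h1 h2 h3 h0 ⊢
  linear_combination h0 + h1 + h2 - h3

/-- A cocycle of units lifts across a square zero element when the annihilated quotient has depth four. -/
theorem exists_cocycle_lift {R C R₀ : Type u} [CommRing R] [CommRing C] [CommRing R₀] [IsLocalRing R₀]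
    [IsNoetherianRing R₀] [Fintype K] (φ : R →+* C) (hφ : Function.Surjective φ) (ψ : R →+* R₀)
    (hψ : Function.Surjective ψ) (ε : R) (hker : RingHom.ker φ = Ideal.span {ε})
    (hann : ∀ x, ε * x = 0 ↔ ψ x = 0) (hε : ψ ε = 0) (hd : (4 : ℕ∞) ≤ LocCoh.depth R₀ R₀) {f : K → R} {g : K → C}
    (hg : ∀ k, φ (f k) = g k) {f₀ : K → R₀} (hf₀ : ∀ k, ψ (f k) = f₀ k) (hcov : IsCover f₀)
    {s : ∀ k l, Ov (g k * g l)} (hs : IsCocycle g s) :
    ∃ t : ∀ k l, Ov (f k * f l), IsCocycle f t ∧ push φ g hg t = s := by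
  classical
  have hεε : ε * ε = 0 := (hann ε).2 hε
  have hnil : ∀ x ∈ RingHom.ker φ, IsNilpotent x := fun x hx => by
    rw [hker, Ideal.mem_span_singleton'] at hx
    obtain ⟨r, rfl⟩ := hx
    exact ⟨2, by linear_combination r ^ 2 * hεε⟩
  have hmul : ∀ k l, φ (f k * f l) = g k * g l := fun k l => by rw [map_mul, hg, hg]
  choose T hT using fun k l => mv_surjective φ hφ (f k * f l) (g k * g l) (hmul k l) (s k l)
  have hTu : ∀ k l, IsUnit (T k l) := fun k l =>
    isUnit_of_isUnit_mv φ hφ _ _ (hmul k l) hnil ((hT k l).symm ▸ hs.unit k l)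
  have hm3 : ∀ k l m, φ (f k * f l * f m) = g k * g l * g m := fun k l m => by simp only [map_mul, hg]
  have hc : ∀ k l m, ∃ c : Ov (f k * f l * f m), p₃ f k l m (T k l) * p₁ f k l m (T l m) =
      p₂ f k l m (T k m) * (1 + algebraMap R _ ε * c) := by
    intro k l m
    obtain ⟨y, hy⟩ := exists_eq_algebraMap_mul φ hφ ε hker _ _ (hm3 k l m)
      (x := p₃ f k l m (T k l) * p₁ f k l m (T l m) - p₂ f k l m (T k m)) (by
        simp only [p₁, p₂, p₃]
        rw [map_sub, RingHom.map_mul (mv φ _ _ _), mv_res_eq φ _ _ (dL φ hg k l) (dvd_mul_right _ _),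
          mv_res_eq φ _ _ (dL φ hg l m) ⟨g k, by ring⟩, mv_res_eq φ _ _ (dL φ hg k m) ⟨g l, by ring⟩, hT, hT, hT,
          sub_eq_zero]
        exact hs.trans k l m)
    obtain ⟨u, hu⟩ := (hTu k m).map (p₂ f k l m)
    refine ⟨(u⁻¹ : (Ov (f k * f l * f m))ˣ) * y, ?_⟩
    rw [← hu] at hy ⊢
    linear_combination hy - algebraMap R _ ε * y * Units.mul_inv u
  choose c hc using hc
  let c₀ : ∀ k l m, Ov (f₀ k * f₀ l * f₀ m) := fun k l m =>
    mv ψ _ _ (by simp [hf₀] : ψ (f k * f l * f m) ∣ f₀ k * f₀ l * f₀ m) (c k l m)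
  have hco : IsCo2 f₀ c₀ := by
    intro i k l m
    have h1 := congrArg (res _ (f i * f k * f l * f m) ⟨f i, by ring⟩) (hc k l m)
    have h2 := congrArg (res _ (f i * f k * f l * f m) ⟨f k, by ring⟩) (hc i l m)
    have h3 := congrArg (res _ (f i * f k * f l * f m) ⟨f l, by ring⟩) (hc i k m)
    have h4 := congrArg (res _ (f i * f k * f l * f m) ⟨f m, by ring⟩) (hc i k l)
    have hU : IsUnit (res _ (f i * f k * f l * f m) ⟨f k * f l, by ring⟩ (T i m)) := (hTu i m).map _
    simp only [p₁, p₂, p₃, map_mul, map_add, map_one, res_res, res_algebraMap] at h1 h2 h3 h4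
    have he : algebraMap R (Ov (f i * f k * f l * f m)) ε * algebraMap R (Ov (f i * f k * f l * f m)) ε = 0 := by
      rw [← map_mul, hεε, map_zero]
    have hz : algebraMap R (Ov (f i * f k * f l * f m)) ε *
        (res _ _ ⟨f i, by ring⟩ (c k l m) + res _ _ ⟨f l, by ring⟩ (c i k m) -
          res _ _ ⟨f k, by ring⟩ (c i l m) - res _ _ ⟨f m, by ring⟩ (c i k l)) = 0 := by
      refine hU.mul_right_eq_zero.1 ?_
      set z := algebraMap R (Ov (f i * f k * f l * f m)) ε
      set Tim := res _ (f i * f k * f l * f m) ⟨f k * f l, by ring⟩ (T i m)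
      set c1 := res _ (f i * f k * f l * f m) ⟨f i, by ring⟩ (c k l m)
      set c2 := res _ (f i * f k * f l * f m) ⟨f k, by ring⟩ (c i l m)
      set c3 := res _ (f i * f k * f l * f m) ⟨f l, by ring⟩ (c i k m)
      set c4 := res _ (f i * f k * f l * f m) ⟨f m, by ring⟩ (c i k l)
      set Tlm := res _ (f i * f k * f l * f m) ⟨f i * f k, by ring⟩ (T l m)
      set Tik := res _ (f i * f k * f l * f m) ⟨f l * f m, by ring⟩ (T i k)
      linear_combination Tlm * h4 + (1 + z * c4) * h2 - Tik * h1 - (1 + z * c1) * h3 +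
        Tim * (c2 * c4 - c1 * c3) * he
    have h5 := (algebraMap_mul_eq_zero_iff ψ hψ ε hann _ _
      (by simp only [map_mul, hf₀] : ψ (f i * f k * f l * f m) = f₀ i * f₀ k * f₀ l * f₀ m) _).1 hz
    rw [map_sub, map_sub, map_add,
      mv_res_eq ψ _ _ (by simp [hf₀] : ψ (f k * f l * f m) ∣ f₀ k * f₀ l * f₀ m) ⟨f₀ i, by ring⟩,
      mv_res_eq ψ _ _ (by simp [hf₀] : ψ (f i * f k * f m) ∣ f₀ i * f₀ k * f₀ m) ⟨f₀ l, by ring⟩,
      mv_res_eq ψ _ _ (by simp [hf₀] : ψ (f i * f l * f m) ∣ f₀ i * f₀ l * f₀ m) ⟨f₀ k, by ring⟩,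
      mv_res_eq ψ _ _ (by simp [hf₀] : ψ (f i * f k * f l) ∣ f₀ i * f₀ k * f₀ l) ⟨f₀ m, by ring⟩] at h5
    simp only [c₀]
    linear_combination h5
  obtain ⟨b₀, hb₀⟩ := exists_coboundary2 hd hcov hco
  choose b hb using fun k l => mv_surjective ψ hψ (f k * f l) (f₀ k * f₀ l) (by rw [map_mul, hf₀, hf₀]) (b₀ k l)
  refine ⟨fun k l => T k l * (1 - algebraMap R _ ε * b k l), ⟨fun k l => (hTu k l).mul ?_, fun k l m => ?_⟩,
    funext fun k => funext fun l => ?_⟩
  · rw [sub_eq_add_neg]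
    refine IsNilpotent.isUnit_one_add ⟨2, ?_⟩
    rw [neg_sq, mul_pow, sq (algebraMap R _ ε), ← map_mul, hεε, map_zero, zero_mul]
  · have h0 : algebraMap R (Ov (f k * f l * f m)) ε *
        (c k l m - (p₃ f k l m (b k l) + p₁ f k l m (b l m) - p₂ f k l m (b k m))) = 0 := by
      refine (algebraMap_mul_eq_zero_iff ψ hψ ε hann _ _
        (by simp only [map_mul, hf₀] : ψ (f k * f l * f m) = f₀ k * f₀ l * f₀ m) _).2 ?_
      simp only [p₁, p₂, p₃]
      rw [map_sub, map_sub, map_add, mv_res_eq ψ _ _ (dL ψ hf₀ k l) (dvd_mul_right _ _),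
        mv_res_eq ψ _ _ (dL ψ hf₀ l m) ⟨f₀ k, by ring⟩, mv_res_eq ψ _ _ (dL ψ hf₀ k m) ⟨f₀ l, by ring⟩, hb, hb, hb,
        sub_eq_zero]
      exact hb₀ k l m
    have he : algebraMap R (Ov (f k * f l * f m)) ε * algebraMap R _ ε = 0 := by rw [← map_mul, hεε, map_zero]
    have h1 := hc k l m
    simp only [p₁, p₂, p₃] at h0 h1
    simp only [map_mul, map_sub, map_one, res_algebraMap]
    set z := algebraMap R (Ov (f k * f l * f m)) ε
    set a := res _ (f k * f l * f m) (dvd_mul_right _ _) (b k l)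
    set a' := res _ (f k * f l * f m) ⟨f k, by ring⟩ (b l m)
    set T' := res _ (f k * f l * f m) ⟨f l, by ring⟩ (T k m)
    linear_combination (1 - z * a) * (1 - z * a') * h1 + T' * h0 +
      T' * (a * a' - c k l m * (a + a') + c k l m * z * a * a') * he
  · show mv φ _ _ _ _ = s k l
    have hφε : φ ε = 0 := RingHom.mem_ker.1 (hker ▸ Ideal.mem_span_singleton_self ε)
    rw [map_mul, map_sub, map_one, map_mul, mv_algebraMap, hφε, map_zero, zero_mul, sub_zero, mul_one, hT]

end Groth.Agent.SGA11
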