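import Groth.Agent.PicU24.Tower
import Groth.Agent.SGA11.Obst
import Groth.Agent.SGA11.Finite

/-!
# A cocycle on a hypersurface lifted to all orders, and its sections of all orders
-/

set_option autoImplicit false
set_option linter.style.haveILetI false
universe u

open IsLocalRing

namespace Groth.Agent.SGA11

open PicU24

variable {B : Type u} [CommRing B] {K : Type u} {t : B}

/-- Divisibility by a power of the fixed element. -/
def Dv (t : B) (n : ℕ) {g : B} (x : Ov g) : Prop := algebraMap B (Ov g) t ^ n ∣ x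

theorem Dv.mono {m n : ℕ} (h : m ≤ n) {g : B} {x : Ov g} (hx : Dv t n x) : Dv t m x := (pow_dvd_pow _ h).trans hx

theorem Dv.map {n : ℕ} {g h : B} (hd : g ∣ h) {x : Ov g} (hx : Dv t n x) : Dv t n (res g h hd x) := by
  have h1 := map_dvd (res g h hd) hx
  rwa [map_pow, res_algebraMap] at h1

theorem Dv.cancel (hreg : IsSMulRegular B t) {a b : ℕ} {g : B} {x : Ov g}
    (hx : Dv t (a + b) (algebraMap B (Ov g) t ^ a * x)) : Dv t b x := by
  obtain ⟨y, hy⟩ := hx
  refine ⟨y, sub_eq_zero.1 (regular_algebraMap g (hreg.pow a) ?_)⟩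
  rw [map_pow]
  linear_combination hy

theorem dv_iff (n : ℕ) (g : B) (h : B ⧸ Ideal.span {t ^ (n + 1)}) (e : πn t n g = h) (x : Ov g) :
    mv (πn t n) g h (e ▸ dvd_rfl) x = 0 ↔ Dv t (n + 1) x := by
  constructor
  · intro hx
    obtain ⟨y, hy⟩ := exists_eq_algebraMap_mul (πn t n) Ideal.Quotient.mk_surjective _ Ideal.mk_ker g h e hx
    exact ⟨y, by rw [hy, map_pow]⟩
  · rintro ⟨y, rfl⟩
    rw [map_mul, map_pow, mv_algebraMap, ← map_pow, ← map_pow,
      show (πn t n) (t ^ (n + 1)) = 0 from Ideal.Quotient.eq_zero_iff_mem.2 (Ideal.mem_span_singleton_self _),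
      map_zero, zero_mul]

/-- Transition functions to every order. -/
structure Sys (t : B) (f : K → B) where
  S : ℕ → ∀ k l, Ov (f k * f l)
  succ : ∀ n k l, Dv t (n + 1) (S (n + 1) k l - S n k l)
  trans : ∀ n k l m, Dv t (n + 1) (p₃ f k l m (S n k l) * p₁ f k l m (S n l m) - p₂ f k l m (S n k m))
  inv : ∀ n k l, ∃ v, Dv t (n + 1) (S n k l * v - 1)

variable {f : K → B}

/-- The transition functions at a given order. -/
noncomputable def Sys.lev (σ : Sys t f) (n : ℕ) : ∀ k l, Ov (fn t f n k * fn t f n l) :=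
  fun k l => mv (πn t n) _ _ (dL (πn t n) (g := fn t f n) (fun _ => rfl) k l) (σ.S n k l)

theorem Sys.isCocycle (σ : Sys t f) (n : ℕ) : IsCocycle (fn t f n) (σ.lev n) := by
  refine ⟨fun k l => ?_, fun k l m => ?_⟩
  · obtain ⟨v, hv⟩ := σ.inv n k l
    have := (dv_iff n _ _ (map_mul (πn t n) (f k) (f l)) _).2 hv
    rw [map_sub, map_mul, map_one, sub_eq_zero] at this
    exact IsUnit.of_mul_eq_one _ this
  · have hd : πn t n (f k * f l * f m) = fn t f n k * fn t f n l * fn t f n m := by simp [fn]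
    have h1 := (dv_iff n _ _ hd _).2 (σ.trans n k l m)
    rw [map_sub, map_mul, sub_eq_zero, p₁, p₂, p₃, mv_res_eq (πn t n) _ _ (dL (πn t n) (fun _ => rfl) k l) (dvd_mul_right _ _),
      mv_res_eq (πn t n) _ _ (dL (πn t n) (fun _ => rfl) l m) ⟨fn t f n k, by ring⟩,
      mv_res_eq (πn t n) _ _ (dL (πn t n) (fun _ => rfl) k m) ⟨fn t f n l, by ring⟩] at h1
    exact h1

theorem Sys.succ_le (σ : Sys t f) {m n : ℕ} (h : m ≤ n) (k l : K) : Dv t (m + 1) (σ.S n k l - σ.S m k l) := by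
  induction n, h using Nat.le_induction with
  | base => rw [sub_self]; exact dvd_zero _
  | succ n hn ih =>
    rw [← sub_add_sub_cancel (σ.S (n + 1) k l) (σ.S n k l)]
    exact dvd_add ((σ.succ n k l).mono (by omega)) ih

/-- The defect of a family from being a section. -/
noncomputable def δ (S : ∀ k l, Ov (f k * f l)) (y : ∀ k, Ov (f k)) (k l : K) : Ov (f k * f l) :=
  r₂ f k l (y l) - r₁ f k l (y k) * S k l

theorem δ_add (S : ∀ k l, Ov (f k * f l)) (y y' : ∀ k, Ov (f k)) (k l : K) :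
    δ S (y + y') k l = δ S y k l + δ S y' k l := by
  simp only [δ, Pi.add_apply, map_add]; ring

theorem δ_smul (S : ∀ k l, Ov (f k * f l)) (r : B) (y : ∀ k, Ov (f k)) (k l : K) :
    δ S (r • y) k l = algebraMap B _ r * δ S y k l := by
  simp only [δ, Pi.smul_apply, Algebra.smul_def, map_mul, res_algebraMap]; ring

theorem δ_congr {n : ℕ} {S S' : ∀ k l, Ov (f k * f l)} (k l : K) (h : Dv t n (S k l - S' k l)) (y : ∀ k, Ov (f k)) :
    Dv t n (δ S y k l - δ S' y k l) := by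
  rw [show δ S y k l - δ S' y k l = -(r₁ f k l (y k)) * (S k l - S' k l) by simp only [δ]; ring]
  exact h.mul_left _

/-- Sections at a given order. -/
def Sys.Sect (σ : Sys t f) (n : ℕ) (y : ∀ k, Ov (f k)) : Prop := ∀ k l, Dv t (n + 1) (δ (σ.S n) y k l)

theorem Sys.Sect.mono {σ : Sys t f} {m n : ℕ} (h : m ≤ n) {y : ∀ k, Ov (f k)} (hy : σ.Sect n y) : σ.Sect m y :=
  fun k l => by
    rw [← sub_sub_cancel (δ (σ.S n) y k l) (δ (σ.S m) y k l)]
    exact dvd_sub ((hy k l).mono (by omega)) (δ_congr k l (σ.succ_le h k l) y)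

/-- Obstructions to lifting sections by one order. -/
noncomputable def Sys.obs (σ : Sys t f) (n : ℕ) : Submodule B (∀ k l, Ov (f k * f l)) where
  carrier := {c | ∃ y, ∀ k l, Dv t (n + 2) (δ (σ.S (n + 1)) y k l - algebraMap B _ t ^ (n + 1) * c k l)}
  add_mem' := by
    rintro c c' ⟨y, hy⟩ ⟨y', hy'⟩
    refine ⟨y + y', fun k l => ?_⟩
    rw [δ_add, Pi.add_apply, Pi.add_apply, mul_add, add_sub_add_comm]
    exact dvd_add (hy k l) (hy' k l)
  zero_mem' := ⟨0, fun k l => by simp [δ, Dv]⟩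
  smul_mem' := by
    rintro r c ⟨y, hy⟩
    refine ⟨r • y, fun k l => ?_⟩
    rw [δ_smul, Pi.smul_apply, Pi.smul_apply, Algebra.smul_def, mul_left_comm, ← mul_sub]
    exact (hy k l).mul_left _

theorem Sys.obs_le_succ (σ : Sys t f) (n : ℕ) : σ.obs n ≤ σ.obs (n + 1) := by
  rintro c ⟨y, hy⟩
  refine ⟨t • y, fun k l => ?_⟩
  obtain ⟨a, ha⟩ := hy k l
  obtain ⟨b, hb⟩ := δ_congr k l (σ.succ (n + 1) k l) y
  refine ⟨a + b, ?_⟩
  rw [δ_smul]
  linear_combination algebraMap B (Ov (f k * f l)) t * hb + algebraMap B (Ov (f k * f l)) t * ha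

theorem Sys.obs_congr (σ : Sys t f) (n : ℕ) {c c' : ∀ k l, Ov (f k * f l)} (h : ∀ k l, Dv t 1 (c k l - c' k l))
    (hc : c ∈ σ.obs n) : c' ∈ σ.obs n := by
  obtain ⟨y, hy⟩ := hc
  refine ⟨y, fun k l => ?_⟩
  obtain ⟨a, ha⟩ := hy k l
  obtain ⟨b, hb⟩ := h k l
  exact ⟨a + b, by linear_combination ha + algebraMap B (Ov (f k * f l)) t ^ (n + 1) * hb⟩

theorem Sys.twCo_of_obs (σ : Sys t f) (hreg : IsSMulRegular B t) {n : ℕ} {c : ∀ k l, Ov (f k * f l)}
    (hc : c ∈ σ.obs n) (k l m : K) :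
    Dv t 1 (p₂ f k l m (c k m) - (p₃ f k l m (c k l) * p₁ f k l m (σ.S 0 l m) + p₁ f k l m (c l m))) := by
  obtain ⟨y, hy⟩ := hc
  obtain ⟨a, ha⟩ := (hy k m).map (h := f k * f l * f m) ⟨f l, by ring⟩
  obtain ⟨b, hb⟩ := (hy k l).map (h := f k * f l * f m) (dvd_mul_right _ _)
  obtain ⟨d, hd⟩ := (hy l m).map (h := f k * f l * f m) ⟨f k, by ring⟩
  obtain ⟨s, hs⟩ := σ.trans (n + 1) k l m
  obtain ⟨e, he⟩ := (σ.succ_le (Nat.zero_le (n + 1)) l m).map (h := f k * f l * f m) ⟨f k, by ring⟩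
  refine Dv.cancel hreg (a := n + 1) ?_
  simp only [δ, r₁, r₂, p₁, p₂, p₃, map_sub, map_mul, map_pow, res_res, res_algebraMap] at ha hb hd hs he ⊢
  refine ⟨-a + res (f k) (f k * f l * f m) ⟨f l * f m, by ring⟩ (y k) * s +
    b * res (f l * f m) (f k * f l * f m) ⟨f k, by ring⟩ (σ.S (n + 1) l m) + d +
    res (f k * f l) (f k * f l * f m) (dvd_mul_right _ _) (c k l) * e, ?_⟩
  linear_combination -ha + res (f k) (f k * f l * f m) ⟨f l * f m, by ring⟩ (y k) * hs +
    res (f l * f m) (f k * f l * f m) ⟨f k, by ring⟩ (σ.S (n + 1) l m) * hb + hd +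
    algebraMap B (Ov (f k * f l * f m)) t ^ (n + 1) * res (f k * f l) (f k * f l * f m) (dvd_mul_right _ _) (c k l) * he

theorem Sys.coboundary_mem (σ : Sys t f) (n : ℕ) (a : ∀ k, Ov (f k)) : δ (σ.S 0) a ∈ σ.obs n := by
  refine ⟨t ^ (n + 1) • a, fun k l => ?_⟩
  obtain ⟨b, hb⟩ := δ_congr k l (σ.succ_le (Nat.zero_le (n + 1)) k l) a
  exact ⟨b, by rw [δ_smul, map_pow]; linear_combination algebraMap B (Ov (f k * f l)) t ^ (n + 1) * hb⟩

variable [IsLocalRing B] [IsNoetherianRing B] [Fintype K]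

/-- The obstructions are stationary when the hypersurface has depth three. -/
theorem Sys.exists_obs_stable (σ : Sys t f) (hreg : IsSMulRegular B t)
    [IsLocalRing (B ⧸ Ideal.span {t ^ (0 + 1)})] (hf : IsCover (fn t f 0))
    (hd : (3 : ℕ∞) ≤ LocCoh.depth (B ⧸ Ideal.span {t ^ (0 + 1)}) (B ⧸ Ideal.span {t ^ (0 + 1)})) :
    ∃ n₀, ∀ n, σ.obs n ≤ σ.obs n₀ := by
  classical
  let P : ∀ k l, Ov (f k * f l) →+* Ov (fn t f 0 k * fn t f 0 l) := fun k l =>
    mv (πn t 0) _ _ (dL (πn t 0) (g := fn t f 0) (fun _ => rfl) k l)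
  have hP : ∀ k l x, P k l x = 0 ↔ Dv t 1 x := fun k l x => dv_iff 0 _ _ (map_mul (πn t 0) (f k) (f l)) x
  let E₀ : ℕ → Submodule (B ⧸ Ideal.span {t ^ (0 + 1)}) (∀ k l, Ov (fn t f 0 k * fn t f 0 l)) := fun n =>
    { carrier := {d | ∃ c ∈ σ.obs n, ∀ k l, P k l (c k l) = d k l}
      add_mem' := by
        rintro d d' ⟨c, hc, h⟩ ⟨c', hc', h'⟩
        exact ⟨c + c', add_mem hc hc', fun k l => by simp only [Pi.add_apply, map_add, h k l, h' k l]⟩
      zero_mem' := ⟨0, zero_mem _, fun k l => by simp⟩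
      smul_mem' := by
        rintro r d ⟨c, hc, h⟩
        obtain ⟨r, rfl⟩ := Ideal.Quotient.mk_surjective r
        refine ⟨r • c, Submodule.smul_mem _ r hc, fun k l => ?_⟩
        simp only [Pi.smul_apply, Algebra.smul_def, map_mul, P, mv_algebraMap] at h ⊢
        rw [h k l] }
  obtain ⟨n₀, hn₀⟩ := exists_stable hd hf (σ.isCocycle 0)
    ⟨E₀, monotone_nat_of_le_succ fun n d ⟨c, hc, h⟩ => ⟨c, σ.obs_le_succ n hc, h⟩⟩
    (fun n d ⟨c, hc, h⟩ k l m => by
      have h1 := (dv_iff 0 _ _ (by simp [fn] : πn t 0 (f k * f l * f m) = fn t f 0 k * fn t f 0 l * fn t f 0 m) _).2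
        (σ.twCo_of_obs hreg hc k l m)
      rw [map_sub, map_add, RingHom.map_mul (mv (πn t 0) _ _ _), sub_eq_zero, p₁, p₂, p₃,
        mv_res_eq (πn t 0) _ _ (dL (πn t 0) (g := fn t f 0) (fun _ => rfl) k m) ⟨fn t f 0 l, by ring⟩,
        mv_res_eq (πn t 0) _ _ (dL (πn t 0) (g := fn t f 0) (fun _ => rfl) k l) (dvd_mul_right _ _),
        mv_res_eq (πn t 0) _ _ (dL (πn t 0) (g := fn t f 0) (fun _ => rfl) l m) ⟨fn t f 0 k, by ring⟩,
        mv_res_eq (πn t 0) _ _ (dL (πn t 0) (g := fn t f 0) (fun _ => rfl) l m) ⟨fn t f 0 k, by ring⟩] at h1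
      simp only [P] at h
      rw [h, h, h] at h1
      exact h1)
    (fun n a => by
      choose a' ha' using fun k => mv_surjective (πn t 0) Ideal.Quotient.mk_surjective (f k) (fn t f 0 k) rfl (a k)
      refine ⟨δ (σ.S 0) a', σ.coboundary_mem n a', fun k l => ?_⟩
      simp only [δ, P, map_sub, map_mul, r₁, r₂]
      rw [mv_res_eq (πn t 0) _ _ (dvd_refl (fn t f 0 l)) (dvd_mul_left _ _),
        mv_res_eq (πn t 0) _ _ (dvd_refl (fn t f 0 k)) (dvd_mul_right _ _), ha', ha']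
      rfl)
  refine ⟨n₀, fun n c hc => ?_⟩
  obtain ⟨c', hc', h⟩ := hn₀ n (show (fun k l => P k l (c k l)) ∈ E₀ n from ⟨c, hc, fun _ _ => rfl⟩)
  refine σ.obs_congr n₀ (fun k l => ?_) hc'
  rw [← hP, map_sub, h k l, sub_self]

omit [IsNoetherianRing B] [IsLocalRing B] [Fintype K] in
/-- Past the stable order every section lifts to all orders, up to a lower order. -/
theorem Sys.exists_compatible (σ : Sys t f) (hreg : IsSMulRegular B t) {n₀ : ℕ}
    (h₀ : ∀ n, σ.obs n ≤ σ.obs n₀) {y : ∀ k, Ov (f k)} (hy : σ.Sect (n₀ + 1) y) :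
    ∃ z : ℕ → ∀ k, Ov (f k), (∀ i, σ.Sect i (z i)) ∧ (∀ i k, Dv t (i + 1) (z (i + 1) k - z i k)) ∧
      ∀ k, Dv t 1 (z 0 k - y k) := by
  have step : ∀ m y, n₀ ≤ m → σ.Sect m y →
      ∃ y', σ.Sect (m + 1) y' ∧ ∀ k, Dv t (m - n₀) (y' k - y k) := by
    intro m y hm hy
    have h1 : ∀ k l, Dv t (m + 1) (δ (σ.S (m + 1)) y k l) := fun k l => by
      have := dvd_add (δ_congr k l (σ.succ m k l) y) (hy k l)
      rwa [sub_add_cancel] at this
    choose c hc using h1
    obtain ⟨z, hz⟩ := h₀ m (show c ∈ σ.obs m from ⟨y, fun k l => by rw [← hc k l, sub_self]; exact dvd_zero _⟩)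
    refine ⟨y - t ^ (m - n₀) • z, fun k l => ?_, fun k => ?_⟩
    · obtain ⟨a, ha⟩ := hz k l
      obtain ⟨b, hb⟩ := δ_congr k l (σ.succ_le (show n₀ + 1 ≤ m + 1 by omega) k l) z
      refine ⟨-(a + b), ?_⟩
      have e : δ (σ.S (m + 1)) (y - t ^ (m - n₀) • z) k l = δ (σ.S (m + 1)) y k l -
          algebraMap B _ t ^ (m - n₀) * δ (σ.S (m + 1)) z k l := by
        rw [sub_eq_add_neg, ← neg_smul, δ_add, δ_smul, map_neg, map_pow]; ring
      obtain ⟨d, rfl⟩ := Nat.exists_eq_add_of_le hm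
      rw [e]
      simp only [Nat.add_sub_cancel_left] at *
      linear_combination hc k l - algebraMap B (Ov (f k * f l)) t ^ d * (hb + ha)
    · refine ⟨-z k, ?_⟩
      rw [Pi.sub_apply, Pi.smul_apply, Algebra.smul_def, map_pow]
      ring
  let seq : ∀ i, {y : ∀ k, Ov (f k) // σ.Sect (n₀ + 1 + i) y} := fun i =>
    Nat.rec ⟨y, hy⟩ (fun i a => ⟨(step _ a.1 (by omega) a.2).choose, (step _ a.1 (by omega) a.2).choose_spec.1⟩) i
  refine ⟨fun i => (seq i).1, fun i => (seq i).2.mono (by omega), fun i k => ?_, fun k => ?_⟩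
  · exact ((step _ (seq i).1 (by omega) (seq i).2).choose_spec.2 k).mono (by omega)
  · show Dv t 1 (y k - y k)
    rw [sub_self]
    exact dvd_zero _

omit [IsNoetherianRing B] in
/-- Every cocycle on the hypersurface lifts to all orders when the hypersurface has depth four. -/
theorem exists_sys (ht : t ∈ maximalIdeal B) [IsNoetherianRing B] (hreg : IsSMulRegular B t)
    [IsLocalRing (B ⧸ Ideal.span {t ^ (0 + 1)})] (hf : IsCover (fn t f 0))
    (hd : (4 : ℕ∞) ≤ LocCoh.depth (B ⧸ Ideal.span {t ^ (0 + 1)}) (B ⧸ Ideal.span {t ^ (0 + 1)}))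
    {T : ∀ k l, Ov (fn t f 0 k * fn t f 0 l)} (hT : IsCocycle (fn t f 0) T) :
    ∃ σ : Sys t f, σ.lev 0 = T := by
  classical
  have key : ∀ n (s : ∀ k l, Ov (fn t f n k * fn t f n l)), IsCocycle (fn t f n) s →
      ∃ s' : ∀ k l, Ov (fn t f (n + 1) k * fn t f (n + 1) l), IsCocycle (fn t f (n + 1)) s' ∧
        push (Ideal.Quotient.factor (Ideal.span_singleton_le_span_singleton.2 (pow_dvd_pow t (n + 1).le_succ)))
          (fn t f n) (fun _ => rfl) s' = s := by
    intro n s hs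
    have hle : Ideal.span {t ^ (n + 1 + 1)} ≤ Ideal.span {t ^ (0 + 1)} :=
      Ideal.span_singleton_le_span_singleton.2 (pow_dvd_pow t (by omega))
    refine exists_cocycle_lift _ (Ideal.Quotient.factor_surjective _) (Ideal.Quotient.factor hle)
      (Ideal.Quotient.factor_surjective _) (πn t (n + 1) (t ^ (n + 1))) ?_ ?_ ?_ hd (f₀ := fn t f 0)
      (fun _ => rfl) (fun _ => rfl) hf hs
    · rw [Ideal.Quotient.factor_ker, Ideal.map_span, Set.image_singleton]
    · intro x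
      obtain ⟨y, rfl⟩ := Ideal.Quotient.mk_surjective x
      rw [← map_mul, Ideal.Quotient.eq_zero_iff_mem, Ideal.Quotient.factor_mk, Ideal.Quotient.eq_zero_iff_mem,
        Ideal.mem_span_singleton, Ideal.mem_span_singleton, pow_succ t (n + 1), zero_add, pow_one]
      exact ⟨fun ⟨c, hc⟩ => ⟨c, (hreg.pow (n + 1)) (by simp only [smul_eq_mul]; linear_combination hc)⟩,
        fun h => mul_dvd_mul_left _ h⟩
    · rw [Ideal.Quotient.factor_mk, Ideal.Quotient.eq_zero_iff_mem]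
      exact Ideal.mem_span_singleton.2 (pow_dvd_pow t (by omega))
  let seq : ∀ n, {s : ∀ k l, Ov (fn t f n k * fn t f n l) // IsCocycle (fn t f n) s} := fun n =>
    Nat.rec ⟨T, hT⟩ (fun n a => ⟨(key n a.1 a.2).choose, (key n a.1 a.2).choose_spec.1⟩) n
  choose S hS using fun n k l => mv_surjective (πn t n) Ideal.Quotient.mk_surjective (f k * f l)
    (fn t f n k * fn t f n l) (map_mul (πn t n) _ _) ((seq n).1 k l)
  refine ⟨⟨S, fun n k l => ?_, fun n k l m => ?_, fun n k l => ?_⟩, funext fun k => funext fun l => hS 0 k l⟩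
  · rw [← dv_iff n _ _ (map_mul (πn t n) (f k) (f l)), map_sub, hS n k l, sub_eq_zero]
    have h1 := congrFun (congrFun (key n (seq n).1 (seq n).2).choose_spec.2 k) l
    change mv _ _ _ _ ((seq (n + 1)).1 k l) = _ at h1
    rw [← hS (n + 1) k l, mv_mv] at h1
    exact (mv_congr (RingHom.ext fun _ => rfl) _ _ _ _).trans h1
  · have hd3 : πn t n (f k * f l * f m) = fn t f n k * fn t f n l * fn t f n m := by simp [fn]
    rw [← dv_iff n _ _ hd3, map_sub, map_mul, sub_eq_zero, p₁, p₂, p₃,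
      mv_res_eq (πn t n) _ _ (dL (πn t n) (g := fn t f n) (fun _ => rfl) k l) (dvd_mul_right _ _),
      mv_res_eq (πn t n) _ _ (dL (πn t n) (g := fn t f n) (fun _ => rfl) l m) ⟨fn t f n k, by ring⟩,
      mv_res_eq (πn t n) _ _ (dL (πn t n) (g := fn t f n) (fun _ => rfl) k m) ⟨fn t f n l, by ring⟩, hS, hS, hS]
    exact (seq n).2.trans k l m
  · obtain ⟨w, hw⟩ := ((seq n).2.unit k l).exists_right_inv
    obtain ⟨v, hv⟩ := mv_surjective (πn t n) Ideal.Quotient.mk_surjective (f k * f l) _ (map_mul (πn t n) _ _) w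
    refine ⟨v, ?_⟩
    rw [← dv_iff n _ _ (map_mul (πn t n) (f k) (f l)), map_sub, map_mul, map_one, hS, hv, hw, sub_self]

end Groth.Agent.SGA11
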